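import Cfsg.Agent.H687.NetScheme
import Cfsg.Agent.S0721
import Cfsg.Agent.S0953
import Cfsg.Agent.S4456
import Cfsg.Agent.H478.RadTools_m3
import Cfsg.Agent.H671.Tensor
import Cfsg.Agent.Lib.SubnormalJoin
import Cfsg.Agent.H360.LD.RowJ3_m3
import Cfsg.Agent.H671.FactRows
import Cfsg.Agent.H570.Ore.Blk_m3
import Cfsg.Agent.H489.OutSpor
import Cfsg.Agent.H535.Ore.ON
import Cfsg.Agent.H492.FactsON
import Cfsg.Agent.H843.IMC.Co1B
import Cfsg.Agent.H692.RealOver
import Cfsg.Agent.S0145
import Cfsg.Agent.S2069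
import Cfsg.Agent.S0399
import Cfsg.Agent.H55.OutGen
import Cfsg.Agent.H676.Deg.Res
import Mathlib
import Cfsg.Agent.H676.Deg.LocM
import Cfsg.Agent.H653.ThE.Cyc
import Cfsg.Agent.H491.PB.ThC
import Cfsg.Agent.LThreeMB.Quo
import Cfsg.Prelude.Def_KGroupFacts
import Cfsg.Agent.H241.NHMonA
import Cfsg.Agent.S2057
import Cfsg.Agent.S2083
import Cfsg.Agent.H816.IMM
import Cfsg.Agent.S2085
import Cfsg.Agent.H653.ThE.P5
import Cfsg.Agent.H241.Deg.MonFinal
import Cfsg.Agent.H58.Cop.MSc_m3
import Cfsg.Agent.H436.MonLoc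
import Cfsg.Agent.FastGrp
import Cfsg.Agent.Prune
set_option linter.all false

section
prune_inst 0x7f00000000000000000000000000000000000000000000000000000000000000000000000000000000000000000000000000000000000000000000000000000000000000000000000000000000000000003ffff7ffffffffffffffffffffffbeffbdebfeffff

-- part: H358/LD/NetS2
section
set_option linter.all false
open scoped Cfsg.Agent.FastGrp

/-!
# Irreducible constituents of a permutation character, two quadratic irrationalities (helper358)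

A variant of `H687.NetScheme.exists_chars`: the coefficients of the idempotent `s` are
`(ea s i + eb s i * w (gb s)) / D`, with `w b ^ 2 = d b`, `b : Bool`.
-/

set_option autoImplicit false
set_option linter.unusedSectionVars false

namespace Cfsg.Agent.H358.LD

open Cfsg Cfsg.Agent.Characters.Core Cfsg.Agent.H687.Scheme Cfsg.Agent.H687.NetScheme

universe u

variable {G : Type u} [Group G] {φ : G →* Equiv.Perm ℕ} {H : Subgroup G} {n r : ℕ} {U y : Fin r → ℕ}

/-- **The constituents of the permutation character.** -/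
theorem exists_chars2 [Finite G] (M : Masks φ H n U y) {v : Fin r → G} (hv : ∀ k, φ (v k) (y k) = 0)
    {pr : Fin r → Fin r} (hpr : ∀ k, (U (pr k)).testBit (φ (v k) 0) = true) (hinj : Function.Injective pr)
    {p : Fin r → Fin r → Fin r → ℕ}
    (hcnt : ∀ i j k, Nat.card {z : Fin n // (U i).testBit z = true ∧ (U (pr j)).testBit (φ (v k) z) = true} = p i j k)
    {d : Bool → ℤ} (w : Bool → ℂ) (hw : ∀ b, w b * w b = (d b : ℂ)) (gb : Fin r → Bool) (ea eb : Fin r → Fin r → ℤ)
    {D : ℤ} (hD : D ≠ 0)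
    (he : ∀ s k, ∑ i, ∑ j, (ea s i * ea s j + d (gb s) * (eb s i * eb s j)) * (p i j k : ℤ) = D * ea s k)
    (he' : ∀ s k, ∑ i, ∑ j, (ea s i * eb s j + eb s i * ea s j) * (p i j k : ℤ) = D * eb s k) {k₀ : Fin r}
    (hk₀ : (U k₀).testBit 0 = true) (hsum : ∀ k, ∑ s, ea s k = if k = k₀ then D else 0)
    (hsum' : ∀ k b, ∑ s, (if gb s = b then eb s k else 0) = 0) {deg : Fin r → ℕ}
    (hdeg : ∀ s, (n : ℤ) * ea s k₀ = D * (deg s : ℤ)) (hdeg' : ∀ s, eb s k₀ = 0) (hdeg0 : ∀ s, deg s ≠ 0) :
    ∃ χ : Fin r → G → ℂ, (∀ s, IsIrrCharacter G (χ s)) ∧ (∀ s t, s ≠ t → χ s ≠ χ t) ∧ (∀ s, χ s 1 = (deg s : ℂ)) ∧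
      ∀ g, ∑ s, χ s g = (Nat.card {i : Fin n // φ g i = i} : ℂ) := by
  classical
  let _ : MulAction G (Fin n) := finAct φ n M.bd
  have hsm : ∀ (g : G) (i : Fin n), ((g • i : Fin n) : ℕ) = φ g i := fun _ _ => rfl
  have : NeZero n := ⟨M.pos.ne'⟩
  have h0 : ((0 : Fin n) : ℕ) = 0 := rfl
  have hst0 : ∀ g : G, g • (0 : Fin n) = 0 ↔ g ∈ H := by
    intro g
    rw [← M.stab, Fin.ext_iff, hsm, h0]
  have htr : ∀ x : Fin n, ∃ g : G, g • (0 : Fin n) = x := by
    intro x
    obtain ⟨g, hg⟩ := M.tr x x.2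
    exact ⟨g, Fin.ext (by rw [hsm, h0, hg])⟩
  have hmem : ∀ g : G, g ∈ H → ∀ i q, (U i).testBit q = true → (U i).testBit (φ g q) = true := by
    intro g hg i q hq
    obtain ⟨x, hx, hxq⟩ := (M.orb i q).1 hq
    exact (M.orb i _).2 ⟨g * x, H.mul_mem hg hx, by rw [map_mul, Equiv.Perm.mul_apply, hxq]⟩
  have hst : ∀ g : G, g • (0 : Fin n) = 0 → ∀ z, ind M (g • z) = ind M z := by
    intro g hg z
    rw [ind_iff, hsm]
    exact hmem g ((hst0 g).1 hg) _ _ ((ind_iff M z _).1 rfl)
  have hrep : ∀ x : Fin n, ∃ g : G, g • (0 : Fin n) = 0 ∧ g • (⟨y (ind M x), M.y_lt _⟩ : Fin n) = x := by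
    intro x
    obtain ⟨g, hg, hgx⟩ := (M.orb _ _).1 ((ind_iff M x _).1 rfl)
    exact ⟨g, (hst0 g).2 hg, Fin.ext (by rw [hsm]; exact hgx)⟩
  have hS : Sch G (mkLab htr (ind M)) (0 : Fin n) (fun k => (⟨y k, M.y_lt k⟩ : Fin n)) p := by
    refine sch_of htr hst (w := fun k => (v k)⁻¹) hrep (fun k => ?_) (pr := pr) (fun k => ?_) hinj (fun i j k => ?_)
    · rw [inv_smul_eq_iff]
      exact Fin.ext (by rw [hsm, h0]; exact (hv k).symm)
    · rw [inv_inv, ind_iff, hsm, h0]
      exact hpr k
    · rw [← hcnt i j k]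
      refine Nat.card_congr (Equiv.subtypeEquivRight fun z => ?_)
      rw [inv_inv, ind_iff, ind_iff, hsm]
  have hk : mkLab htr (ind M) 0 0 = k₀ := by
    rw [mkLab_eq htr hst (one_smul G (0 : Fin n)), inv_one, one_smul, ind_iff]
    exact hk₀
  have hDC : (D : ℂ) ≠ 0 := by exact_mod_cast hD
  obtain ⟨c, hc⟩ : ∃ c : Fin r → Fin r → ℂ, c = fun s i => ((ea s i : ℂ) + (eb s i : ℂ) * w (gb s)) / D := ⟨_, rfl⟩
  have hcc : ∀ s i, c s i = ((ea s i : ℂ) + (eb s i : ℂ) * w (gb s)) / D := fun s i => by rw [hc]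
  have h1 : ∀ s k, ∑ i, ∑ j, c s i * c s j * p i j k = c s k := by
    intro s k
    have e1 : ∑ i, ∑ j, (((ea s i : ℂ) * ea s j + d (gb s) * ((eb s i : ℂ) * eb s j)) * (p i j k : ℂ)) =
        D * ea s k := by exact_mod_cast congrArg (fun x : ℤ => (x : ℂ)) (he s k)
    have e2 : ∑ i, ∑ j, (((ea s i : ℂ) * eb s j + (eb s i : ℂ) * ea s j) * (p i j k : ℂ)) =
        D * eb s k := by exact_mod_cast congrArg (fun x : ℤ => (x : ℂ)) (he' s k)
    have e3 : ∑ i, ∑ j, c s i * c s j * p i j k =
        (∑ i, ∑ j, (((ea s i : ℂ) * ea s j + d (gb s) * ((eb s i : ℂ) * eb s j)) * (p i j k : ℂ)) +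
          w (gb s) * ∑ i, ∑ j, (((ea s i : ℂ) * eb s j + (eb s i : ℂ) * ea s j) * (p i j k : ℂ))) / (D * D) := by
      rw [Finset.mul_sum, ← Finset.sum_add_distrib, Finset.sum_div]
      refine Finset.sum_congr rfl fun i _ => ?_
      rw [Finset.mul_sum, ← Finset.sum_add_distrib, Finset.sum_div]
      refine Finset.sum_congr rfl fun j _ => ?_
      rw [hcc, hcc]
      field_simp
      linear_combination ((eb s i : ℂ) * eb s j * p i j k) * hw (gb s)
    rw [e3, e1, e2, hcc]
    field_simp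
  have h2 : ∀ k, ∑ s, c s k = if k = mkLab htr (ind M) 0 0 then 1 else 0 := by
    intro k
    have h3 : ∑ s, (eb s k : ℂ) * w (gb s) = 0 := by
      have h4 : ∀ s, (eb s k : ℂ) * w (gb s) = ∑ b : Bool, (if gb s = b then (eb s k : ℂ) else 0) * w b := by
        intro s
        rw [Fintype.sum_bool]
        cases gb s <;> simp
      rw [Finset.sum_congr rfl fun s _ => h4 s, Finset.sum_comm]
      refine Finset.sum_eq_zero fun b _ => ?_
      rw [← Finset.sum_mul]
      have h5 := congrArg (fun x : ℤ => (x : ℂ)) (hsum' k b)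
      simp only [Int.cast_sum, Int.cast_ite, Int.cast_zero] at h5
      rw [h5, zero_mul]
    have h4 : ∑ s, (ea s k : ℂ) = if k = k₀ then (D : ℂ) else 0 := by
      have h5 := congrArg (fun x : ℤ => (x : ℂ)) (hsum k)
      simp only [Int.cast_sum, Int.cast_ite, Int.cast_zero] at h5
      exact h5
    rw [hk, Finset.sum_congr rfl fun s _ => hcc s k, ← Finset.sum_div, Finset.sum_add_distrib, h3, h4, add_zero]
    split_ifs
    · rw [div_self hDC]
    · rw [zero_div]
  have h3 : ∀ s, (n : ℂ) * c s k₀ = deg s := by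
    intro s
    have h4 : (n : ℂ) * ea s k₀ = D * (deg s : ℂ) := by exact_mod_cast congrArg (fun x : ℤ => (x : ℂ)) (hdeg s)
    rw [hcc, hdeg', Int.cast_zero, zero_mul, add_zero, ← mul_div_assoc, h4, mul_div_cancel_left₀ _ hDC]
  have h4 : ∀ s, c s (mkLab htr (ind M) 0 0) ≠ 0 := by
    intro s h5
    rw [hk] at h5
    have h6 := h3 s
    rw [h5, mul_zero] at h6
    exact hdeg0 s (by exact_mod_cast h6.symm)
  obtain ⟨h5, h6⟩ := hS.irr h1 h2 h4
  refine ⟨fun s => chi G (mkLab htr (ind M)) (c s), h5, h6, fun s => ?_, fun g => ?_⟩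
  · show chi G (mkLab htr (ind M)) (c s) 1 = _
    rw [hS.chi_one, hk, Nat.card_eq_fintype_card, Fintype.card_fin, h3]
  · show ∑ s, chi G (mkLab htr (ind M)) (c s) g = _
    rw [hS.sum_chi h2]
    congr 1
    refine Nat.card_congr (Equiv.subtypeEquivRight fun i => ?_)
    rw [MulAction.mem_fixedBy, Fin.ext_iff, hsm]

end Cfsg.Agent.H358.LD
end

-- part: H954/LD/Final_mg
section
set_option linter.all false
open scoped Cfsg.Agent.FastGrp

-- part: H954/Cop
section
/-!
# Reduction of S4910 to the hub fact `FactCop` (helper954)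
-/

set_option autoImplicit false

namespace Cfsg.Agent.H954.Cop

open Cfsg Cfsg.Agent.H671.H5 Cfsg.Agent.H459.Rad Cfsg.Agent.Characters.Core
open Cfsg.Agent.Blocks.Basic (charDegree_of_eq irr_one_eq_charDegree charDegree_pos)

universe u v

/-- degree of the extension of `θ × ... × θ` -/
theorem degree_ext {G : Type v} [Group G] [Finite G] (N : Subgroup G) {S : Type u} [Group S] [Finite S] {m : ℕ}
    (e : N ≃* (Fin m → S)) {θ : IrrCharacter S} {χ : IrrCharacter G}
    (h : ∀ n : N, (χ : G → ℂ) n = ∏ i, (θ : S → ℂ) (e n i)) :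
    charDegree (χ : G → ℂ) = charDegree (θ : S → ℂ) ^ m := by
  apply charDegree_of_eq
  have h1 := h 1
  rw [map_one] at h1
  rw [show ((1 : G)) = ((1 : N) : G) from rfl, h1, Nat.cast_pow, ← irr_one_eq_charDegree θ.2]
  simp only [_root_.Pi.one_apply, _root_.Finset.prod_const, _root_.Finset.card_univ, _root_.Fintype.card_fin]

/-- characters of a quotient group -/
theorem exists_infl {G : Type v} [Group G] [Finite G] (R : Subgroup G) [R.Normal] (χ : IrrCharacter (G ⧸ R)) :
    ∃ ψ : IrrCharacter G, charDegree (ψ : G → ℂ) = charDegree (χ : G ⧸ R → ℂ) := by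
  refine ⟨⟨_, isIrr_comp (QuotientGroup.mk' R) (QuotientGroup.mk'_surjective R) χ.2⟩, ?_⟩
  apply charDegree_of_eq
  show (χ : G ⧸ R → ℂ) (QuotientGroup.mk' R 1) = _
  rw [map_one, irr_one_eq_charDegree χ.2]

/-- trivial solvable radical -/
theorem main_rad (hF : FactCop.{0}) {G : Type v} [Group G] [Finite G] (hR : solvableRadical G = ⊥)
    (hne : Nontrivial G) :
    ∃ χ ψ : IrrCharacter G, charDegree (χ : G → ℂ) ≠ 1 ∧ charDegree (ψ : G → ℂ) ≠ 1 ∧
      Nat.Coprime (charDegree (χ : G → ℂ)) (charDegree (ψ : G → ℂ)) := by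
  classical
  obtain ⟨N, hNn, hN1, hmin⟩ := Cfsg.Agent.Lib.SubnormalJoin.exists_minimal_normal G
  have hNs : ¬ Group.IsSolvable N := fun h => hN1 (le_bot_iff.mp (hR ▸ le_rad hNn h))
  obtain ⟨T, _, m, hTs, hm, ⟨e⟩⟩ := Cfsg.Agent.S0721.result N hN1 hmin
  have hT : ¬ IsMulCommutative T := by
    intro h
    apply hNs
    exact Group.isSolvable_of_comm fun a b => e.injective (by
      rw [map_mul, map_mul]
      funext i
      exact h.is_comm.comm _ _)
  have : Finite T := by
    have h1 : Finite (Fin m → T) := Finite.of_equiv _ e.toEquiv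
    exact Finite.of_injective (fun t : T => (fun _ : Fin m => t)) fun a b h => congrFun h ⟨0, hm⟩
  rcases hF T hT with ⟨α, β, hα, hβ, hab, hAα, hAβ⟩ | ⟨α, hα, hAα⟩
  · obtain ⟨χ, hχ⟩ := Cfsg.Agent.H671.Tensor.exists_extension N hT e hAα
    obtain ⟨ψ, hψ⟩ := Cfsg.Agent.H671.Tensor.exists_extension N hT e hAβ
    refine ⟨χ, ψ, ?_, ?_, ?_⟩
    · rw [degree_ext N e hχ]
      intro h
      exact hα (Nat.pow_eq_one.mp h |>.resolve_right hm.ne')
    · rw [degree_ext N e hψ]
      intro h
      exact hβ (Nat.pow_eq_one.mp h |>.resolve_right hm.ne')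
    · rw [degree_ext N e hχ, degree_ext N e hψ]
      exact hab.pow _ _
  · obtain ⟨χ, hχ⟩ := Cfsg.Agent.H671.Tensor.exists_extension N hT e hAα
    obtain ⟨p, k, hp, hk, hpk⟩ := hα
    have hp' : p.Prime := Nat.prime_iff.mpr hp
    have : Fact p.Prime := ⟨hp'⟩
    have hd := degree_ext N e hχ
    rw [← hpk, ← pow_mul] at hd
    have hkm : k * m ≠ 0 := (Nat.mul_pos hk hm).ne'
    have hχ1 : charDegree (χ : G → ℂ) ≠ 1 := by
      rw [hd]
      intro h
      rcases Nat.pow_eq_one.mp h with h | h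
      · exact hp'.one_lt.ne' h
      · exact hkm h
    by_contra hcon
    push Not at hcon
    have hall : ∀ ψ : IrrCharacter G, charDegree (ψ : G → ℂ) ≠ 1 → p ∣ charDegree (ψ : G → ℂ) := by
      intro ψ hψ
      by_contra hnd
      apply hcon χ ψ hχ1 hψ
      rw [hd]
      exact Nat.Coprime.pow_left _ ((Nat.Prime.coprime_iff_not_dvd hp').mpr hnd)
    obtain ⟨K, hKn, hKc, j, hj⟩ := Cfsg.Agent.S4456.result p hp' hall
    -- p divides |N|
    have hpN : p ∣ Nat.card N := by
      have h1 : charDegree (α : T → ℂ) ∣ Nat.card T := Cfsg.Agent.S0953.charDegree_dvd_card α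
      have h2 : p ∣ Nat.card T := by
        refine dvd_trans ?_ h1
        rw [← hpk]
        exact dvd_pow_self p hk.ne'
      rw [Nat.card_congr e.toEquiv, Nat.card_fun, Nat.card_fin]
      exact dvd_pow h2 hm.ne'
    have hinf : (N ⊓ K).Normal := inferInstance
    rcases hmin (N ⊓ K) hinf inf_le_left with h | h
    · -- N embeds in the p-group G / K
      apply hNs
      have hpg : IsPGroup p (G ⧸ K) := IsPGroup.of_card (n := j) (by
        rw [← Subgroup.index_eq_card, hj])
      let f : N →* G ⧸ K := (QuotientGroup.mk' K).comp N.subtype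
      have hf : Function.Injective f := by
        rw [injective_iff_map_eq_one]
        intro n hn
        have h2 : (n : G) ∈ K := by
          have h3 : QuotientGroup.mk' K (n : G) = 1 := hn
          rwa [QuotientGroup.mk'_apply, QuotientGroup.eq_one_iff] at h3
        have h3 : (n : G) ∈ N ⊓ K := ⟨n.2, h2⟩
        rw [h, Subgroup.mem_bot] at h3
        exact Subtype.ext h3
      have hpN' : IsPGroup p N := hpg.of_injective f hf
      have : Group.IsNilpotent N := hpN'.isNilpotent
      infer_instance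
    · have h1 : N ≤ K := by
        rw [← h]
        exact inf_le_right
      have h2 : Nat.card N ∣ Nat.card K := Subgroup.card_dvd_of_le h1
      exact hp'.one_lt.ne' (Nat.eq_one_of_dvd_coprimes hKc.symm (dvd_refl p) (dvd_trans hpN h2))

theorem main (hF : FactCop.{0}) {G : Type v} [Group G] [Finite G] (hG : ¬ Group.IsSolvable G) :
    ∃ χ ψ : IrrCharacter G, charDegree (χ : G → ℂ) ≠ 1 ∧ charDegree (ψ : G → ℂ) ≠ 1 ∧
      Nat.Coprime (charDegree (χ : G → ℂ)) (charDegree (ψ : G → ℂ)) := by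
  have hR : solvableRadical (G ⧸ solvableRadical G) = ⊥ := rad_quotient
  have hne : Nontrivial (G ⧸ solvableRadical G) := by
    rw [QuotientGroup.nontrivial_iff]
    intro h
    exact hG (rad_eq_top_iff.mp h)
  obtain ⟨χ, ψ, h1, h2, h3⟩ := main_rad hF hR hne
  obtain ⟨χ', hχ'⟩ := exists_infl _ χ
  obtain ⟨ψ', hψ'⟩ := exists_infl _ ψ
  exact ⟨χ', ψ', hχ' ▸ h1, hψ' ▸ h2, by rw [hχ', hψ']; exact h3⟩

end Cfsg.Agent.H954.Cop
end

-- part: H954/LD/Final
section
/-!
# S4910 from the rows of the sporadic groups and the Tits group (helper954)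
-/

set_option autoImplicit false

namespace Cfsg.Agent.H954.LD

open Cfsg Cfsg.Agent.H671.H5

universe u

/-- The row of the groups satisfying `P`. -/
def RowOf (P : (S : Type) → [Group S] → Prop) : Prop :=
  ∀ (S : Type) [Group S] [Finite S] [IsSimpleGroup S], ¬ IsMulCommutative S → P S → CopRow S

/-- All the rows. -/
structure Rows : Prop where
  m11 : RowOf @Spor.IsoM11
  m12 : RowOf @Spor.IsoM12
  m22 : RowOf @Spor.IsoM22
  m23 : RowOf @Spor.IsoM23
  m24 : RowOf @Spor.IsoM24
  j1 : RowOf @Spor.IsoJ1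
  j2 : RowOf @Spor.IsoJ2
  j3 : RowOf @Spor.IsoJ3
  j4 : RowOf @Spor.IsoJ4
  co1 : RowOf @Spor.IsoCo1
  co2 : RowOf @Spor.IsoCo2
  co3 : RowOf @Spor.IsoCo3
  mcl : RowOf @Spor.IsoMcL
  hs : RowOf @Spor.IsoHS
  suz : RowOf @Spor.IsoSuz
  he : RowOf @Spor.IsoHe
  ru : RowOf @Spor.IsoRu
  on : RowOf @Spor.IsoON
  ly : RowOf @Spor.IsoLy
  fi22 : RowOf @Spor.IsoFi22
  fi23 : RowOf @Spor.IsoFi23
  fi24 : RowOf @Spor.IsoFi24'
  hn : RowOf @Spor.IsoHN
  th : RowOf @Spor.IsoTh
  b : RowOf @Spor.IsoB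
  m : RowOf @Spor.IsoM
  tits : RowOf @Lie.IsoTits

theorem factCop (hK : Cfsg.Agent.H671.FactRows.KnownAll.{0}) (R : Rows) : FactCop.{0} := by
  refine Cfsg.Agent.H671.FactRows.factCop_of_rows hK fun S _ _ _ hna h => ?_
  have key : CopRow S := by
    rcases h with h | h
    · exact R.tits S hna h
    · rcases h with h | h | h | h | h | h | h | h | h | h | h | h | h | h | h | h | h | h | h | h | h | h | h | h | h | h
      · exact R.m11 S hna h
      · exact R.m12 S hna h
      · exact R.m22 S hna h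
      · exact R.m23 S hna h
      · exact R.m24 S hna h
      · exact R.j1 S hna h
      · exact R.j2 S hna h
      · exact R.j3 S hna h
      · exact R.j4 S hna h
      · exact R.co1 S hna h
      · exact R.co2 S hna h
      · exact R.co3 S hna h
      · exact R.mcl S hna h
      · exact R.hs S hna h
      · exact R.suz S hna h
      · exact R.he S hna h
      · exact R.ru S hna h
      · exact R.on S hna h
      · exact R.ly S hna h
      · exact R.fi22 S hna h
      · exact R.fi23 S hna h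
      · exact R.fi24 S hna h
      · exact R.hn S hna h
      · exact R.th S hna h
      · exact R.b S hna h
      · exact R.m S hna h
  exact key

theorem main (hK : Cfsg.Agent.H671.FactRows.KnownAll.{0}) (R : Rows) {G : Type*} [Group G] [Finite G]
    (hG : ¬ Group.IsSolvable G) :
    ∃ χ ψ : IrrCharacter G, charDegree (χ : G → ℂ) ≠ 1 ∧ charDegree (ψ : G → ℂ) ≠ 1 ∧
      Nat.Coprime (charDegree (χ : G → ℂ)) (charDegree (ψ : G → ℂ)) :=
  Cfsg.Agent.H954.Cop.main (factCop hK R) hG

end Cfsg.Agent.H954.LD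
end

-- part: H349/LD/Branch
section
/-!
# The sieve of helper653 with branching (helper349)

`Tr` is a tree of bounds on the numbers of the characters of given degrees (`num d ≤ k` or `num d ≥ k + 1`) with a Farkas
certificate at every leaf; `chk_sound` : if `chk` succeeds then the bounds at the root are contradictory.
`num_pos`, `num_le_one`, `two_le_num` : bounds. Python: `tools/h349/` (strong branching, `lp.cpp` of helper653).
-/

set_option autoImplicit false
set_option linter.unusedSectionVars false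

open Cfsg Subgroup

namespace Cfsg.Agent.H349.LD

open Cfsg.Agent.Characters.Core
open Cfsg.Agent.H653.Sieve (allDiv facProd Cf deg one_of_deg)
open Cfsg.Agent.H653.Sys

universe u

/-- a bound on the number of the characters of degree `d`: at most `k` (`up`) or at least `k` -/
structure Bd where
  d : ℕ
  k : ℤ
  up : Bool

/-- the branching tree -/
inductive Tr
  | leaf (a : ℤ) (cs : List Cf) (ms : List ℤ)
  | node (d : ℕ) (k : ℤ) (l r : Tr)

/-- the conditions of a leaf -/
def exs : List Bd → List ℤ → List Ex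
  | b :: bs, m :: ms => ⟨fun x => Nat.beq x b.d, m, m * b.k⟩ :: exs bs ms
  | _, _ => []

/-- the signs of the multipliers -/
def sgs : List Bd → List ℤ → Bool
  | b :: bs, m :: ms => (bif b.up then decide (0 ≤ m) else decide (m ≤ 0)) && sgs bs ms
  | _, _ => true

/-- the check -/
def chk (N : ℕ) (Fs : List Fam) (L : List (ℕ × ℕ)) : Tr → List Bd → Bool
  | .leaf a cs ms, bs => sgs bs ms && certOK N a cs (exs bs ms) Fs &&
      allDiv N (okD N a cs (exs bs ms) Fs (fun _ => false)) L 1
  | .node d k l r, bs => chk N Fs L l (⟨d, k, true⟩ :: bs) && chk N Fs L r (⟨d, k + 1, false⟩ :: bs)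

section

variable {G : Type u} [Group G] [Fintype (IrrCharacter G)]

/-- the bound holds -/
def Bd.Holds (b : Bd) (G : Type u) [Group G] [Fintype (IrrCharacter G)] : Prop :=
  bif b.up then num G (fun x => Nat.beq x b.d) ≤ b.k else b.k ≤ num G (fun x => Nat.beq x b.d)

theorem exs_holds : ∀ {bs : List Bd} {ms : List ℤ}, (∀ b ∈ bs, b.Holds G) → sgs bs ms = true →
    ∀ e ∈ exs bs ms, e.Holds G
  | [], ms, _, _, e, he => by cases ms <;> simp [exs] at he
  | b :: bs, [], _, _, e, he => by simp [exs] at he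
  | b :: bs, m :: ms, hb, hs, e, he => by
    rw [sgs, Bool.and_eq_true] at hs
    rw [exs, List.mem_cons] at he
    rcases he with rfl | he
    · have h1 := hb b List.mem_cons_self
      unfold Bd.Holds at h1
      obtain ⟨h2, -⟩ := hs
      cases hup : b.up
      · rw [hup] at h1 h2
        exact Ex.of_ge h1 (by simpa using h2)
      · rw [hup] at h1 h2
        exact Ex.of_le h1 (by simpa using h2)
    · exact exs_holds (fun b hb' => hb b (List.mem_cons_of_mem _ hb')) hs.2 e he

/-- **The sieve with branching.** -/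
theorem chk_sound [Finite G] {lab : G → ℕ} (hlab : ∀ g h : G, IsConj g h → lab g = lab h) (h1 : lab 1 = 1)
    (N : ℕ) (hN : Nat.card G = N) (L : List (ℕ × ℕ)) (hL : (L.all fun pa => Nat.Prime pa.1) = true)
    (hLN : facProd L = N) (hone : ∀ χ : IrrCharacter G, deg χ = 1 → (χ : G → ℂ) = 1)
    {Fs : List Fam} {Ws : List (IrrCharacter G → ℤ)} (hs : SysOK lab Fs Ws) :
    ∀ (t : Tr) (bs : List Bd), (∀ b ∈ bs, b.Holds G) → chk N Fs L t bs = true → False
  | .leaf a cs ms, bs, hb, h => by
    rw [chk, Bool.and_eq_true, Bool.and_eq_true] at h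
    obtain ⟨χ, -, h2⟩ := exists_of_cert hlab h1 N hN L hL hLN hone hs _ (exs_holds hb h.1.1) a cs _ h.1.2 h.2
    exact Bool.false_ne_true h2
  | .node d k l r, bs, hb, h => by
    rw [chk, Bool.and_eq_true] at h
    rcases le_or_gt (num G (fun x => Nat.beq x d)) k with hk | hk
    · refine chk_sound hlab h1 N hN L hL hLN hone hs l (⟨d, k, true⟩ :: bs) (fun b hb' => ?_) h.1
      rcases List.mem_cons.1 hb' with rfl | h3
      · exact hk
      · exact hb b h3
    · refine chk_sound hlab h1 N hN L hL hLN hone hs r (⟨d, k + 1, false⟩ :: bs) (fun b hb' => ?_) h.2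
      rcases List.mem_cons.1 hb' with rfl | h3
      · exact hk
      · exact hb b h3

theorem num_pos {d : ℕ} (h : ∃ χ : IrrCharacter G, deg χ = d) : 1 ≤ num G (fun x => Nat.beq x d) := by
  obtain ⟨χ₀, h0⟩ := h
  have h3 := Finset.single_le_sum (f := fun χ : IrrCharacter G => (bif Nat.beq (deg χ) d then (1 : ℤ) else 0))
    (fun χ _ => by cases Nat.beq (deg χ) d <;> simp) (Finset.mem_univ χ₀)
  have h4 : Nat.beq (deg χ₀) d = true := by rw [Nat.beq_eq]; exact h0
  simp only [h4, cond_true] at h3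
  exact h3

theorem num_le_one {d : ℕ} (h : ∀ χ ψ : IrrCharacter G, deg χ = d → deg ψ = d → χ = ψ) :
    num G (fun x => Nat.beq x d) ≤ 1 := by
  classical
  by_cases he : ∃ χ : IrrCharacter G, deg χ = d
  · obtain ⟨χ, hχ⟩ := he
    unfold num
    rw [Finset.sum_eq_single χ]
    · show (bif Nat.beq (deg χ) d then (1 : ℤ) else 0) ≤ 1
      generalize Nat.beq (deg χ) d = b
      cases b <;> decide
    · intro ψ _ hne
      show (bif Nat.beq (deg ψ) d then (1 : ℤ) else 0) = 0
      have h1 : Nat.beq (deg ψ) d = false := by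
        rw [Bool.eq_false_iff]
        intro h2
        exact hne (h ψ χ (Nat.eq_of_beq_eq_true h2) hχ)
      rw [h1]
      rfl
    · intro h1
      exact absurd (Finset.mem_univ χ) h1
  · push Not at he
    unfold num
    rw [Finset.sum_eq_zero]
    · norm_num
    · intro χ _
      show (bif Nat.beq (deg χ) d then (1 : ℤ) else 0) = 0
      have h1 : Nat.beq (deg χ) d = false := by
        rw [Bool.eq_false_iff]
        intro h2
        exact he χ (Nat.eq_of_beq_eq_true h2)
      rw [h1]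
      rfl

theorem two_le_num {d : ℕ} {χ ψ : IrrCharacter G} (hχ : deg χ = d) (hψ : deg ψ = d) (hne : χ ≠ ψ) :
    2 ≤ num G (fun x => Nat.beq x d) := by
  classical
  have h3 : ∑ θ ∈ ({χ, ψ} : Finset (IrrCharacter G)), (bif Nat.beq (deg θ) d then (1 : ℤ) else 0) ≤
      num G (fun x => Nat.beq x d) :=
    Finset.sum_le_sum_of_subset_of_nonneg (Finset.subset_univ _) fun θ _ _ => by
      cases Nat.beq (deg θ) d <;> simp
  rw [Finset.sum_pair hne] at h3
  have h4 : Nat.beq (deg χ) d = true := by rw [Nat.beq_eq]; exact hχ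
  have h5 : Nat.beq (deg ψ) d = true := by rw [Nat.beq_eq]; exact hψ
  rw [h4, h5] at h3
  exact h3

end

end Cfsg.Agent.H349.LD
end

-- part: H349/LD/RowON
section
/-!
# S4910, the row `O'N` (helper349)

The degrees 10944 = 2⁶ · 3² · 19 and 116963 = 7³ · 11 · 31, each the degree of exactly one character (116963: helper535).

* `ON.uniq_10944` : at most one character of degree 10944 (the sieve with branching, 8 leaves).
-/

set_option autoImplicit false
set_option linter.unusedSectionVars false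

open Cfsg Subgroup

namespace Cfsg.Agent.H349.LD

open Cfsg.Agent.Characters.Core
open Cfsg.Agent.H653.Sieve (allDiv facProd Cf deg one_of_deg)
open Cfsg.Agent.H653.Sys

universe u

/-! ### O'N -/

namespace ON

open Cfsg.Agent.H535.K4.ON
open Cfsg.Agent.H210.On7 (Data)

/-- the tree -/
def tree : Tr :=
  (.node 498960 0
  (.node 147840 0
  (.node 6480 0
  (.node 589248 0
  (.node 31185 0
  (.leaf (21) [⟨1314506, -37162540800, 0, [-597440137140, -1420567319, 5140776686, 262713159778, -131008181069]⟩,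
    ⟨-2582838, -40422412800, 672822639720, [-576335196110, -10026104686, -311104650881, 154983885260]⟩, ⟨9352223,
    1170885703477, 0, [47479012286, 247244528075, -122640412818]⟩, ⟨228561, 611221783, 0, [8101520704, -4024092788]⟩,
    ⟨891479, -121622623866, 0, [122582656170]⟩, ⟨-441624, -30885672119, 0, []⟩] [692423299260, 115203876480,
    4629755786040, 4053736403640, 0, -691223258880, 0, 0, 0, -691223258880, -162005451300, 0, 0])
  (.node 381920 0
  (.node 175770 1
  (.leaf (6) [⟨-35125, -44926125408, 0, [-268402774670, 55323981724, 6214730563, 2016989662, 1537318942]⟩, ⟨-1120657,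
    -223700412259, 1358193070080, [89551983447, 6481577551, -97573503326, 44633055507]⟩, ⟨3546163, 512723010619, 0,
    [41131185863, -43688152763, 29018642469]⟩, ⟨151985, 738911439, 0, [3972891622, -1791581053]⟩, ⟨368841, -5629165107,
    0, [12644296393]⟩, ⟨-154344, -4914856920, 0, []⟩] [1018644802560, 2037289605120, -460815505920, 4365620582400,
    2910413721600, 3201455093760, 1455206860800, 0, 0, 0, 0, -835625932589, -835625932589, 0, 0])
  (.leaf (78) [⟨5796854, -66341493938, 0, [590641683345, 1033991651797, 9177165986, 293909488089, -128730968809]⟩,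
    ⟨-5324906, -682068116387, 83811185170, [-386097581492, 9571213495, -609065460461, 341339412000]⟩, ⟨31883030,
    3332754854644, 0, [124398129715, -171530224322, 226721614607]⟩, ⟨672113, 1091135465, 0, [5464890040, -2262284713]⟩,
    ⟨-2040420, -138922277069, 0, [138384951004]⟩, ⟨1177288, -18035497991, 0, []⟩] [-1233951787240, 0, -197773955250, 0,
    0, 0, 0, -249681405299, -175215021262, 0, -341669291462, -1233951787240, -1233951787240, 0, 1233951787240]))
  (.leaf (-35) [⟨-11428161, -711346257985, 0, [-5567233314923, -1871274903245, 98402105459, -89805149022,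
    706022109207]⟩, ⟨18048718, -773745052545, 14638418194338, [2337359045501, 254378288365, 345593678158,
    717542674337]⟩, ⟨-25330735, -4009406181368, 0, [128527773441, 664701077975, 3681775091153]⟩, ⟨1136582, 11827769044,
    0, [-6173027047, 21395045143]⟩, ⟨4348054, 398095406542, 0, [-105834461433]⟩, ⟨10160678, 352079839655, 0, []⟩]
    [-14786041252139, 0, 48929228322679, 43915254583014, 19786699970904, 0, -4974028676966, -3825463395879,
    -74100985877, -7377679406337, -13231040398515, -13231040398515, 0, 0])))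
  (.leaf (549) [⟨40619921, -486855953347, 0, [1037631564150, 6249262917324, 67347863754, 3806272242601,
    -1888283851585]⟩, ⟨-69213460, -529562615922, 243992292383, [-11008586686305, -144762025981, -5279860491877,
    2602221564251]⟩, ⟨217150948, 20626312943050, 0, [821990648565, 3869926633033, -1694860462159]⟩, ⟨4560813,
    8073141364, 0, [166493949026, -85045066419]⟩, ⟨6584953, -2132270176083, 0, [2155395734864]⟩, ⟨-3311174,
    -506832694781, 0, []⟩] [-9055520732262, 0, 0, 0, -280821317649, -225362943770, -38010623159, -665408413983,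
    -9055520732262, -840238866003, 0, 0]))
  (.leaf (163) [⟨11853016, -159945170254, 0, [917360426206, 379726260760, 22125570120, 1497900524986, -882293837571]⟩,
    ⟨-18191979, -591666515106, 7457077225, [396030878933, -15218803452, -318375785489, 416701165627]⟩, ⟨43307704,
    1400637447945, 0, [90313335594, -2709448066057, 1061679952969]⟩, ⟨1387169, 2651364419, 0, [77731206531,
    -50384250926]⟩, ⟨5866392, -322100352418, 0, [-85275784170]⟩, ⟨-4669667, 139215452520, 0, []⟩] [-2974980166716, 0,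
    962113909017, 0, -92504853059, -11979567402, -324882316237, -2974980166716, -2974980166716, 0, 2593759106689]))
  (.leaf (1069) [⟨77219581, -1116833836253, 0, [33120445396907, 14534522444629, 154494101433, -11914824249764,
    6069808148489]⟩, ⟨194751263, -47141809285902, -127208425497, [56955042243596, 1998053123868, 683607111866,
    -352062374416]⟩, ⟨429445351, 42232537424849, 0, [1490566361770, -45509382938304, 23859301667492]⟩, ⟨8791355,
    18651020387, 0, [-1154662053566, 570902774166]⟩, ⟨-212723281, 8972613978932, 0, [-8912714493474]⟩, ⟨108325930,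
    2365899625798, 0, []⟩] [-20773109354303, 5835852328372, 0, -757480410638, -163255234286, -2568509225355,
    -20773109354303, -20773109354303, 0, 0]))
  (.leaf (244) [⟨17907717, -223323573638, -5345827736, [2470825960212, 3152576054394, 30892845218, 233937033396,
    -99354361030]⟩, ⟨-4888224, -3618817405259, 298141045730, [552958435782, 91540120780, -1635351954491, 776110400755]⟩,
    ⟨99504998, 9881594691724, 0, [369588383468, -1933573910384, 1201537992842]⟩, ⟨2067256, 3694157959, 0, [-31919386184,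
    14406749684]⟩, ⟨-12525868, -20543435481, 0, [58319179305]⟩, ⟨6941099, 10322499300, 0, []⟩] [-4153818469672,
    -297450034631, -312715972788, -13025192619, -599734855800, -4153818469672, -4153818469672, 0, 3002087864662]))

/-- the bounds: two characters of degree 10944; known degrees; 58653 and 116963 are the degrees of one character -/
def bds : List Bd := [⟨10944, 2, false⟩, ⟨26752, 1, false⟩, ⟨32395, 1, false⟩, ⟨52668, 1, false⟩, ⟨58653, 1, false⟩,
  ⟨116963, 1, false⟩, ⟨58653, 1, true⟩, ⟨116963, 1, true⟩]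

private def hd : Tr → List Bd → Bool
  | .leaf a cs ms, bs => sgs bs ms && certOK NN a cs (exs bs ms) Fs
  | .node d k l r, bs => hd l (⟨d, k, true⟩ :: bs) && hd r (⟨d, k + 1, false⟩ :: bs)

private noncomputable def lf (x : ℕ) (ws : List ℤ) (t : Tr) : List Bd → Bool :=
  @Tr.rec (fun _ => List Bd → Bool) (fun a cs ms bs => Q3.tst a cs (exs bs ms) (fun _ => false) x ws)
    (fun d k _ _ l r bs => @Bool.rec (fun _ => Bool) false (r (⟨d, k + 1, false⟩ :: bs)) (l (⟨d, k, true⟩ :: bs))) t

private theorem chk_of {f : ℕ → List ℤ → Bool} (h : Q3.run (fun _ l => l) f = true) : ∀ (t : Tr) (bs : List Bd),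
    hd t bs = true → (∀ x ws, f x ws = true → lf x ws t bs = true) → chk NN Fs facs t bs = true
  | .leaf a cs ms, bs, h1, h2 => Bool.and_eq_true_iff.2 ⟨h1, Q3.pass h fun _ => Q3.tst_spec (h2 _)⟩
  | .node d k l r, bs, h1, h2 => by
    have h3 : ∀ x ws, f x ws = true → lf x ws l (⟨d, k, true⟩ :: bs) = true ∧ lf x ws r (⟨d, k + 1, false⟩ :: bs) = true := by
      intro x ws h4
      have h5 : @Bool.rec (fun _ => Bool) false (lf x ws r (⟨d, k + 1, false⟩ :: bs)) (lf x ws l (⟨d, k, true⟩ :: bs)) = true :=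
        h2 x ws h4
      revert h5
      cases lf x ws l (⟨d, k, true⟩ :: bs)
      · exact fun h => Bool.noConfusion h
      · exact fun h => ⟨rfl, h⟩
    exact Bool.and_eq_true_iff.2 ⟨chk_of h l _ (Bool.and_eq_true_iff.1 h1).1 fun x ws h4 => (h3 x ws h4).1,
      chk_of h r _ (Bool.and_eq_true_iff.1 h1).2 fun x ws h4 => (h3 x ws h4).2⟩

theorem chk_tree : chk NN Fs facs tree bds = true :=
  chk_of (f := fun x ws => lf x ws tree bds) (by decide +kernel) _ _ (by decide +kernel) fun _ _ h => h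

theorem simple : IsSimpleGroup Spor.ON := KFacts.ON.Cent.hON.1

theorem not_comm : ¬ IsMulCommutative Spor.ON := by
  intro h
  have h1 := H210.On7.px1
  rw [h.is_comm.comm H210.On7.p0 H210.On7.x1, mul_inv_cancel_right] at h1
  have h3 := H210.On7.px2
  rw [h.is_comm.comm H210.On7.p0 H210.On7.x2, mul_inv_cancel_right, ← h1] at h3
  have h4 : H210.On7.x1 ^ 2 = 1 := by rw [pow_two]; nth_rewrite 1 [h3]; exact inv_mul_cancel _
  exact H210.On7.x1_ne (R04.ThreeAbs.eq_one_of_sq_cube h4 H210.On7.x1_pow)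

theorem uniq_116963 {χ ψ : IrrCharacter Spor.ON} (h1 : charDegree (χ : Spor.ON → ℂ) = 116963)
    (h2 : charDegree (ψ : Spor.ON → ℂ) = 116963) : χ = ψ := by
  have hfin : Finite Spor.ON := KFacts.ON.Cent.finite_ON
  have hs := simple
  obtain ⟨Δ⟩ := H210.On7.exists_data
  exact uniq_deg not_comm Δ 116963 a_u116963 m_u116963 (by norm_num [m_u116963]) cs_u116963 cert_u116963 all_u116963 h1 h2

theorem uniq_58653 {χ ψ : IrrCharacter Spor.ON} (h1 : charDegree (χ : Spor.ON → ℂ) = 58653)
    (h2 : charDegree (ψ : Spor.ON → ℂ) = 58653) : χ = ψ := by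
  have hfin : Finite Spor.ON := KFacts.ON.Cent.finite_ON
  have hs := simple
  obtain ⟨Δ⟩ := H210.On7.exists_data
  exact uniq_deg not_comm Δ 58653 a_u58653 m_u58653 (by norm_num [m_u58653]) cs_u58653 cert_u58653 all_u58653 h1 h2

theorem exists_116963 : ∃ χ : IrrCharacter Spor.ON, charDegree (χ : Spor.ON → ℂ) = 116963 := by
  have hfin : Finite Spor.ON := KFacts.ON.Cent.finite_ON
  have hs := simple
  obtain ⟨Δ⟩ := H210.On7.exists_data
  obtain ⟨c, -, hc⟩ := exists_deg not_comm Δ 116963 a_f116963 cs_f116963 cert_f116963 all_f116963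
  exact ⟨c, hc⟩

theorem exists_58653 : ∃ χ : IrrCharacter Spor.ON, charDegree (χ : Spor.ON → ℂ) = 58653 := by
  have hfin : Finite Spor.ON := KFacts.ON.Cent.finite_ON
  have hs := simple
  obtain ⟨Δ⟩ := H210.On7.exists_data
  obtain ⟨c, -, hc⟩ := exists_deg not_comm Δ 58653 a_f58653 cs_f58653 cert_f58653 all_f58653
  exact ⟨c, hc⟩

theorem exists_of_one {n : ℕ} (h : ∃ χ : IrrCharacter Spor.ON, (χ : Spor.ON → ℂ) 1 = (n : ℕ)) :
    ∃ χ : IrrCharacter Spor.ON, charDegree (χ : Spor.ON → ℂ) = n := by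
  obtain ⟨χ, hχ⟩ := h
  exact ⟨χ, Cfsg.Agent.H670.PSing.charDegree_eq_of hχ⟩

/-- **At most one character of degree 10944.** -/
theorem uniq_10944 {χ ψ : IrrCharacter Spor.ON} (h1 : charDegree (χ : Spor.ON → ℂ) = 10944)
    (h2 : charDegree (ψ : Spor.ON → ℂ) = 10944) : χ = ψ := by
  by_contra hne
  have hfin : Finite Spor.ON := KFacts.ON.Cent.finite_ON
  have hs := simple
  obtain ⟨Δ⟩ := H210.On7.exists_data
  have := finite_irr (G := Spor.ON)
  have := Fintype.ofFinite (IrrCharacter Spor.ON)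
  obtain ⟨A, B, C, T, F, u, hsys, -, -⟩ := exists_sys not_comm Δ
  have hnp : ¬ (Nat.card Spor.ON).Prime := by
    rw [Δ.card]
    exact fun h => absurd (h.eq_one_or_self_of_dvd 2 (by norm_num)) (by norm_num)
  refine chk_sound (lab := fun g : Spor.ON => orderOf g) (fun g h hc => isConj_order hc) orderOf_one NN
    Δ.card facs facs_prime facs_prod (fun χ h => one_of_deg hnp χ h) hsys tree bds (fun b hb => ?_) chk_tree
  simp only [bds, List.mem_cons, List.not_mem_nil, or_false] at hb
  rcases hb with rfl | rfl | rfl | rfl | rfl | rfl | rfl | rfl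
  · exact two_le_num h1 h2 hne
  · exact num_pos (exists_of_one H492.FactsON.exists_26752)
  · exact num_pos (exists_of_one H492.FactsON.exists_32395)
  · exact num_pos (exists_of_one H492.FactsON.exists_52668)
  · exact num_pos exists_58653
  · exact num_pos exists_116963
  · exact num_le_one fun χ ψ h3 h4 => uniq_58653 h3 h4
  · exact num_le_one fun χ ψ h3 h4 => uniq_116963 h3 h4

end ON

open Cfsg.Agent.H954.LD

/-- transport of an invariant character -/
theorem exists_inv_of_uniq {H : Type*} {G : Type u} [Group H] [Group G] [Finite G] (E : G ≃* H) {d : ℕ}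
    (h : ∃ χ : IrrCharacter H, charDegree (χ : H → ℂ) = d)
    (hu : ∀ χ ψ : IrrCharacter H, charDegree (χ : H → ℂ) = d → charDegree (ψ : H → ℂ) = d → χ = ψ) :
    ∃ χ : IrrCharacter G, charDegree (χ : G → ℂ) = d ∧ _root_.Cfsg.Agent.H954.LD.Inv χ := by
  obtain ⟨χ, h1⟩ := h
  have hdeg : ∀ χ : IrrCharacter G, charDegree ((χ : G → ℂ) ∘ E.symm.toMonoidHom) = charDegree (χ : G → ℂ) := by
    intro χ
    unfold charDegree
    rw [Function.comp_apply, map_one]
  obtain ⟨α, hα⟩ : ∃ α : IrrCharacter G, α = ⟨(χ : H → ℂ) ∘ E.toMonoidHom, isIrr_comp E.toMonoidHom E.surjective χ.2⟩ :=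
    ⟨_, rfl⟩
  have hαd : charDegree (α : G → ℂ) = d := by
    rw [hα, ← h1]
    unfold charDegree
    show ⌊((χ : H → ℂ) (E.toMonoidHom 1)).re⌋₊ = _
    rw [map_one]
  refine ⟨α, hαd, inv_of_unique fun ψ hψ => ?_⟩
  rw [hαd] at hψ
  have h2 := hu ⟨_, isIrr_comp E.symm.toMonoidHom E.symm.surjective ψ.2⟩ ⟨_, isIrr_comp E.symm.toMonoidHom E.symm.surjective α.2⟩
    ((hdeg ψ).trans hψ) ((hdeg α).trans hαd)
  apply Subtype.ext
  funext g
  have h3 := congrFun (congrArg Subtype.val h2) (E g)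
  have h4 : (ψ : G → ℂ) (E.symm (E g)) = (α : G → ℂ) (E.symm (E g)) := h3
  rwa [E.symm_apply_apply] at h4

/-- **The row of the O'Nan group.** -/
theorem row_ON {S : Type u} [Group S] [Finite S] [IsSimpleGroup S] (hna : ¬ IsMulCommutative S) (h : Spor.IsoON S) :
    CopRow S := by
  have h2 : Nat.card (Out S) ≤ 2 := by
    apply H489.card_out_sporadic
    unfold IsSporadicGroup
    simp only [h, true_or, or_true]
  obtain ⟨e⟩ := h
  obtain ⟨α, hα, hiα⟩ := exists_inv_of_uniq e (ON.exists_of_one H492.FactsON.exists_10944)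
    fun χ ψ h3 h4 => ON.uniq_10944 h3 h4
  obtain ⟨β, hβ, hiβ⟩ := exists_inv_of_uniq e ON.exists_116963 fun χ ψ h3 h4 => ON.uniq_116963 h3 h4
  exact copRow_inv hna h2 (α := α) (β := β) (by rw [hα]; norm_num) (by rw [hβ]; norm_num) (by rw [hα, hβ]; norm_num)
    hiα hiβ

end Cfsg.Agent.H349.LD
end

-- part: H272/LD/RowCo1
section
/-!
# S4910, row `Co1` (helper272)

`exists_two_primes` : `p` an exact prime divisor of `|G|`, `r` a prime: a nonprincipal irreducible character of degree prime to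
`p` and `r` (the column of an element of order `p` modulo `r`).
-/

set_option autoImplicit false

namespace Cfsg.Agent.H272.LD

open Cfsg Cfsg.Agent.Characters.Core Cfsg.Agent.H954.LD
open scoped ComplexConjugate

universe u

theorem not_integral {r : ℕ} (hr : 2 ≤ r) {β : ℂ} (hβ : IsIntegral ℤ β) : (1 : ℂ) + r * β ≠ 0 := by
  intro h
  have hr0 : (r : ℂ) ≠ 0 := by exact_mod_cast (by omega : r ≠ 0)
  have h1 : β = algebraMap ℚ ℂ (-(1 : ℚ) / r) := by
    rw [map_div₀, map_neg, map_one, map_natCast]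
    field_simp
    linear_combination h
  rw [h1] at hβ
  have h2 : IsIntegral ℤ (-(1 : ℚ) / r) := (isIntegral_algebraMap_iff (algebraMap ℚ ℂ).injective).1 hβ
  obtain ⟨n, hn⟩ := IsIntegrallyClosed.isIntegral_iff.1 h2
  have hn' : (n : ℚ) = -1 / r := hn
  have hrq : (r : ℚ) ≠ 0 := by exact_mod_cast (by omega : r ≠ 0)
  have h3 : (n : ℚ) * r = -1 := by rw [hn']; field_simp
  have h4 : n * (r : ℤ) = -1 := by exact_mod_cast h3
  have h5 : (r : ℤ) ∣ 1 := ⟨-n, by linarith only [h4]⟩
  have h6 := Int.le_of_dvd one_pos h5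
  omega

variable {G : Type u} [Group G]

theorem eq_one_of_deg [IsSimpleGroup G] (hna : ¬ IsMulCommutative G) {χ : G → ℂ} (hχ : IsIrrCharacter G χ)
    (h : charDegree χ = 1) : χ = 1 := by
  have h1 : χ 1 = 1 := by
    rw [Blocks.Basic.irr_one_eq_charDegree hχ, h, Nat.cast_one]
  obtain ⟨f, hf⟩ := Cfsg.Agent.Characters.Linear.exists_hom_of_isIrrCharacter hχ h1
  have h2 : f = 1 := by
    rcases IsSimpleGroup.eq_bot_or_eq_top_of_normal f.ker inferInstance with h | h
    · exfalso
      have hinj : Function.Injective f := (MonoidHom.ker_eq_bot_iff f).1 h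
      refine hna ⟨⟨fun a b => hinj ?_⟩⟩
      rw [map_mul, map_mul, mul_comm]
    · exact MonoidHom.ext fun x => by
        have : x ∈ f.ker := h ▸ Subgroup.mem_top x
        exact this
  rw [hf, h2]
  funext g
  simp

/-- **Two primes.** -/
theorem exists_two_primes [Finite G] {p r : ℕ} (hp : p.Prime) (hr : r.Prime) (h1 : p ∣ Nat.card G) (h2 : ¬ p ^ 2 ∣ Nat.card G) :
    ∃ χ : IrrCharacter G, (χ : G → ℂ) ≠ 1 ∧ ¬ p ∣ charDegree (χ : G → ℂ) ∧ ¬ r ∣ charDegree (χ : G → ℂ) := by
  classical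
  by_contra hcon
  push Not at hcon
  have : Fact p.Prime := ⟨hp⟩
  have := Fintype.ofFinite G
  have : Finite (IrrCharacter G) := finite_irr
  have := Fintype.ofFinite (IrrCharacter G)
  have hfac : (Nat.card G).factorization p = 1 := by
    have h0 : Nat.card G ≠ 0 := Nat.card_pos.ne'
    have h3 : 1 ≤ (Nat.card G).factorization p := (hp.pow_dvd_iff_le_factorization h0).1 (by rwa [pow_one])
    have h4 : ¬ 2 ≤ (Nat.card G).factorization p := fun h => h2 ((hp.pow_dvd_iff_le_factorization h0).2 h)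
    omega
  obtain ⟨x, hx⟩ := exists_prime_orderOf_dvd_card' (G := G) p h1
  have hx1 : ¬ IsConj (1 : G) x := by
    intro h
    rw [isConj_one_right.1 h, orderOf_one] at hx
    exact hp.one_lt.ne hx
  have hcol := S0145.sum_irr_mul_conj (1 : G) x
  rw [if_neg hx1] at hcol
  set! ε : IrrCharacter G := ⟨1, isIrr_one⟩ with hε
  rw [← Finset.add_sum_erase _ _ (Finset.mem_univ ε)] at hcol
  have he : (ε : G → ℂ) 1 * conj ((ε : G → ℂ) x) = 1 := by
    show (1 : ℂ) * conj (1 : ℂ) = 1
    rw [map_one, mul_one]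
  rw [he] at hcol
  -- every other term is `r` times an algebraic integer
  have hterm : ∀ χ : IrrCharacter G, χ ≠ ε → ∃ β : ℂ, IsIntegral ℤ β ∧ (χ : G → ℂ) 1 * conj ((χ : G → ℂ) x) = r * β := by
    intro χ hχ
    have hne : (χ : G → ℂ) ≠ 1 := fun h => hχ (Subtype.ext h)
    by_cases hpd : p ∣ charDegree (χ : G → ℂ)
    · refine ⟨0, isIntegral_zero, ?_⟩
      have h3 := H692.RealOver.defect_zero_vanish χ.2 p hp (by rw [hfac, pow_one]; exact hpd) (x := x) (by rw [hx])
      rw [h3, map_zero, mul_zero, mul_zero]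
    · obtain ⟨k, hk⟩ := hcon χ hne hpd
      have h3 : (χ : G → ℂ) 1 = (charDegree (χ : G → ℂ) : ℂ) := Blocks.Basic.irr_one_eq_charDegree χ.2
      refine ⟨k * conj ((χ : G → ℂ) x), ?_, ?_⟩
      · refine IsIntegral.mul (isIntegral_algebraMap (R := ℤ) (A := ℂ) (x := (k : ℤ))) ?_
        exact IsIntegral.map ((Complex.conjAe : ℂ →ₐ[ℝ] ℂ).restrictScalars ℤ)
          (Characters.GaloisBasic.isIntegral_apply (isIrr_isCharacter χ.2) x)
      · rw [h3, hk]
        push_cast
        ring
  choose β hβ hβe using hterm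
  have hsum : ∑ χ ∈ Finset.univ.erase ε, (χ : G → ℂ) 1 * conj ((χ : G → ℂ) x) =
      r * ∑ χ ∈ (Finset.univ.erase ε).attach, β χ.1 (Finset.ne_of_mem_erase χ.2) := by
    rw [Finset.mul_sum, ← Finset.sum_attach]
    exact Finset.sum_congr rfl fun χ _ => hβe χ.1 _
  rw [hsum] at hcol
  refine not_integral hr.two_le (IsIntegral.sum _ fun χ _ => ?_) hcol
  exact hβ _ _

/-- `|Out S| = 1`, a character of degree `p ^ a r ^ b`, `p` exact -/
theorem copRow_of_two {S : Type u} [Group S] [Finite S] [IsSimpleGroup S] (hna : ¬ IsMulCommutative S)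
    (ho : Nat.card (Out S) = 1) {p r a b : ℕ} (hp : p.Prime) (hr : r.Prime) (h1 : p ∣ Nat.card S) (h2 : ¬ p ^ 2 ∣ Nat.card S)
    {α : IrrCharacter S} (hα : charDegree (α : S → ℂ) = p ^ a * r ^ b) (hα1 : charDegree (α : S → ℂ) ≠ 1) : CopRow S := by
  obtain ⟨χ, hχ, hχp, hχr⟩ := exists_two_primes (G := S) hp hr h1 h2
  refine copRow_one hna ho (α := α) (β := χ) hα1 ?_ ?_
  · intro h
    exact hχ (eq_one_of_deg hna χ.2 h)
  · rw [hα]
    exact Nat.Coprime.mul_left (Nat.Coprime.pow_left a ((Nat.Prime.coprime_iff_not_dvd hp).2 hχp))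
      (Nat.Coprime.pow_left b ((Nat.Prime.coprime_iff_not_dvd hr).2 hχr))

theorem row_Co1 {S : Type u} [Group S] [Finite S] [IsSimpleGroup S] (hna : ¬ IsMulCommutative S)
    (h : Spor.IsoCo1 S) : Cfsg.Agent.H954.LD.CopRow S := by
  obtain ⟨e⟩ := h
  have h1 : Nat.card (Out S) = 1 := by rw [H55.OutGen.card_out_congr e]; exact S2069.result
  have hcard : Nat.card S = 4157776806543360000 := by
    rw [Nat.card_congr e.toEquiv]
    exact S0399.result.2
  obtain ⟨ξ, hξ, -⟩ := H843.IMC.Co1B.exists_299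
  obtain ⟨α, hα⟩ : ∃ χ : IrrCharacter S, charDegree (χ : S → ℂ) = 299 := by
    refine ⟨⟨(ξ : Spor.Co1 → ℂ) ∘ e.toMonoidHom, isIrr_comp e.toMonoidHom e.surjective ξ.2⟩, ?_⟩
    apply Cfsg.Agent.H670.PSing.charDegree_eq_of
    show (ξ : Spor.Co1 → ℂ) (e 1) = _
    rw [map_one, Blocks.Basic.irr_one_eq_charDegree ξ.2, hξ]
  exact copRow_of_two hna h1 (p := 23) (r := 13) (a := 1) (b := 1) (by norm_num) (by norm_num) (by rw [hcard]; norm_num)
    (by rw [hcard]; norm_num) (α := α) (by rw [hα]; norm_num) (by rw [hα]; norm_num)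

end Cfsg.Agent.H272.LD
end

-- part: H792/LD/CongM
section
/-!
# S4910, Monster: the congruences (helper792)

`u` of order 3, `C = C(u) = ⟨u⟩ × T` (`T = Th`), `θ` a character of `T` of degree `767637 = 3 ^ 10 * 13`, `θ'` its
extension to `C` trivial on `u`, `χ` an irreducible character of `G` with
`inducedCentralChar C θ' g ≡ centralChar χ g` for all `g` (`χ` in the block of helper66's `Three`).

* `ind_eq`, `congr_T` : at an element `s` of `T` of order prime to 3: `centralChar θ s ≡ centralChar χ s`;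
* `S19`, `S31` : helper853's conditions;
* `s19_mem`, `s31_mem` : in the form of `H853.Sieve.RowM.Cand`.
-/

set_option autoImplicit false

open Cfsg Subgroup
open Cfsg.Agent.Blocks.Local Cfsg.Agent.Blocks.Basic Cfsg.Agent.H792.DS

namespace Cfsg.Agent.H792.LD

universe u

variable {G : Type u} [Group G] [Finite G] {M : Ideal AlgInt}

section Grp

variable {u : G} (hu : orderOf u = 3) {T : Subgroup G} (hTC : T ≤ centralizer ({u} : Set G))
  (hcard : Nat.card (centralizer ({u} : Set G)) = 3 * Nat.card T) (huT : u ∉ T)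

omit [Finite G] in
include hu huT in
theorem dvd_of_pow_mem {n : ℕ} (h : u ^ n ∈ T) : 3 ∣ n := by
  by_contra h3
  apply huT
  have hc : Nat.Coprime (orderOf u) n := by rw [hu]; exact (Nat.Prime.coprime_iff_not_dvd (by norm_num)).2 h3
  obtain ⟨m, hm⟩ := exists_pow_eq_self_of_coprime hc.symm
  rw [← hm]
  exact pow_mem h m

include hu hTC hcard huT in
/-- `C = ⟨u⟩ T` -/
theorem exists_form {h : G} (hh : h ∈ centralizer ({u} : Set G)) : ∃ i : ℕ, i < 3 ∧ ∃ t ∈ T, h = u ^ i * t := by
  classical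
  have huC : u ∈ centralizer ({u} : Set G) := mem_centralizer_singleton_iff.2 rfl
  let f : Fin 3 × T → centralizer ({u} : Set G) := fun x => ⟨u ^ (x.1 : ℕ) * x.2, mul_mem (pow_mem huC _) (hTC x.2.2)⟩
  have hf : Function.Injective f := by
    rintro ⟨i, t⟩ ⟨j, t'⟩ h
    have h1 : u ^ (i : ℕ) * (t : G) = u ^ (j : ℕ) * t' := congrArg Subtype.val h
    have key : ∀ (i j : Fin 3) (t t' : T), (i : ℕ) ≤ j → u ^ (i : ℕ) * (t : G) = u ^ (j : ℕ) * t' → i = j := by
      intro i j t t' hij h
      have h2 : (t : G) = u ^ ((j : ℕ) - i) * t' := by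
        apply mul_left_cancel (a := u ^ (i : ℕ))
        rw [h, ← mul_assoc, ← pow_add, Nat.add_sub_cancel' hij]
      have h3 : u ^ ((j : ℕ) - i) ∈ T := by
        have h4 : u ^ ((j : ℕ) - i) = (t : G) * (t' : G)⁻¹ := by rw [h2, mul_inv_cancel_right]
        rw [h4]
        exact mul_mem t.2 (inv_mem t'.2)
      have h5 := dvd_of_pow_mem hu huT h3
      have h6 := i.2
      have h7 := j.2
      apply Fin.ext
      omega
    have hij : i = j := by
      rcases le_total (i : ℕ) j with h2 | h2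
      · exact key i j t t' h2 h1
      · exact (key j i t' t h2 h1.symm).symm
    subst hij
    have h2 : t = t' := Subtype.ext (mul_left_cancel h1)
    rw [h2]
  have hcard' : Nat.card (Fin 3 × T) = Nat.card (centralizer ({u} : Set G)) := by
    rw [Nat.card_prod, Nat.card_fin, hcard]
  have hs : Function.Surjective f := ((Nat.bijective_iff_injective_and_card f).2 ⟨hf, hcard'⟩).2
  obtain ⟨⟨i, t⟩, hx⟩ := hs ⟨h, hh⟩
  exact ⟨i, i.2, t, t.2, (congrArg Subtype.val hx).symm⟩

include hu hTC hcard huT in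
theorem mem_T {h : G} (hh : h ∈ centralizer ({u} : Set G)) (h3 : ¬ 3 ∣ orderOf h) : h ∈ T := by
  obtain ⟨i, hi, t, ht, rfl⟩ := exists_form hu hTC hcard huT hh
  have huC := hTC ht
  have hcomm : Commute (u ^ i) t := Commute.pow_left ((mem_centralizer_singleton_iff.1 huC).symm) i
  set n := orderOf (u ^ i * t) with hn
  have h1 : (u ^ i * t) ^ n = 1 := pow_orderOf_eq_one _
  rw [hcomm.mul_pow, ← pow_mul] at h1
  have h2 : u ^ (i * n) ∈ T := by
    rw [eq_inv_of_mul_eq_one_left h1]
    exact inv_mem (pow_mem ht n)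
  have h4 := dvd_of_pow_mem hu huT h2
  have h5 : 3 ∣ i := by
    rcases (Nat.Prime.dvd_mul (by norm_num)).1 h4 with h5 | h5
    · exact h5
    · exact absurd h5 h3
  obtain rfl : i = 0 := by omega
  rw [pow_zero, one_mul]
  exact ht

include hu hTC hcard huT in
/-- **The induced central character at an element of `T` of order prime to 3.** -/
theorem ind_eq {θ' : centralizer ({u} : Set G) → ℂ} {θ : T → ℂ} (hθ : IsIrrCharacter T θ)
    (hθ' : ∀ t : T, θ' ⟨t, hTC t.2⟩ = θ t) {s : T} (hs : ¬ 3 ∣ orderOf s)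
    (hconj : ∀ t : T, IsConj (s : G) t → IsConj s t) :
    inducedCentralChar (centralizer ({u} : Set G)) θ' (s : G) = centralChar θ s := by
  have hinj : Function.Injective fun t : T => (⟨t, hTC t.2⟩ : centralizer ({u} : Set G)) := fun a b h =>
    Subtype.ext (congrArg (fun x : centralizer ({u} : Set G) => (x : G)) h)
  have hset : {h : centralizer ({u} : Set G) | IsConj (s : G) h} =
      (fun t : T => (⟨t, hTC t.2⟩ : centralizer ({u} : Set G))) '' {t : T | IsConj s t} := by
    ext h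
    constructor
    · intro hh
      have h1 : ¬ 3 ∣ orderOf (h : G) := by
        obtain ⟨c, hc⟩ := isConj_iff.1 (show IsConj (s : G) h from hh)
        rw [← hc, show c * (s : G) * c⁻¹ = MulAut.conj c s from rfl, MulEquiv.orderOf_eq, Subgroup.orderOf_coe]
        exact hs
      have h2 := mem_T hu hTC hcard huT h.2 h1
      exact ⟨⟨h, h2⟩, hconj ⟨h, h2⟩ hh, rfl⟩
    · rintro ⟨t, ht, rfl⟩
      obtain ⟨c, hc⟩ := isConj_iff.1 (show IsConj s t from ht)
      exact isConj_iff.2 ⟨c, by rw [← hc]; rfl⟩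
  rw [inducedCentralChar_def, hset, finsum_mem_image (hinj.injOn)]
  have h1 : ∀ t ∈ {t : T | IsConj s t}, θ' ⟨t, hTC t.2⟩ / θ' 1 = θ s / θ 1 := by
    intro t ht
    rw [hθ', irr_isConj hθ (show IsConj s t from ht)]
    congr 1
    exact hθ' 1
  rw [finsum_mem_congr rfl h1]
  have h2 : ∑ᶠ t ∈ {t : T | IsConj s t}, θ s / θ 1 = ({t : T | IsConj s t}.ncard : ℂ) * (θ s / θ 1) := by
    rw [finsum_mem_eq_finite_toFinset_sum _ (Set.toFinite _), Finset.sum_const, nsmul_eq_mul,
      ← Set.ncard_eq_toFinset_card]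
  rw [h2, centralChar_def, index_centralizer_eq_ncard, mul_div_assoc]

end Grp

/-- integers in the local ideal -/
theorem three_dvd (hM : IsPModular 3 M) {n : ℤ} {z : ℂ} (h : MemLocalIdeal M z) (hz : z = n) : (3 : ℤ) ∣ n := by
  have hMp := isPrime_of_isPModular hM
  rw [hz, memLocalIdeal_intCast_iff hM] at h
  exact_mod_cast h

/-! ### Numbers -/

theorem num19 {m σ : ℤ} (h : (3 : ℤ) ∣ -(80883712000 * m) - 13 * 609834563784973900796880374831513600000000 * σ) :
    σ ≡ m [ZMOD 3] := by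
  obtain ⟨q, hq⟩ := h
  exact Int.modEq_iff_dvd.2 ⟨-q - 26961237333 * m - 2642616443068220236786481624269892266666666 * σ - σ, by linear_combination -hq⟩

theorem num31 {m c : ℤ} (h : (3 : ℤ) ∣ 49573888000 * m - 13 * 3737695713520807779077653910257664000000000 * c) :
    c ≡ -m [ZMOD 3] := by
  obtain ⟨q, hq⟩ := h
  exact Int.modEq_iff_dvd.2 ⟨-q + 16524629333 * m - 16196681425256833709336500277783210666666666 * c - c, by linear_combination -hq⟩

theorem num31' {m : ℤ} (h : (3 : ℤ) ∣ 49573888000 * m) : (3 : ℤ) ∣ m := by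
  obtain ⟨q, hq⟩ := h
  exact ⟨q - 16524629333 * m, by linear_combination hq⟩

theorem num31'' {m c : ℤ} (h1 : (3 : ℤ) ∣ 49573888000 * m + 13 * 3737695713520807779077653910257664000000000 * c)
    (h2 : (3 : ℤ) ∣ 13 * 3737695713520807779077653910257664000000000 * c) : (3 : ℤ) ∣ m := by
  obtain ⟨q, hq⟩ := h1
  obtain ⟨r, hr⟩ := h2
  exact ⟨q - r - 16524629333 * m, by linear_combination hq - hr⟩

theorem e19 : (808017424794512875886459904961710757005754368000000000 : ℕ) =
    1140 * (3 ^ 19 * 609834563784973900796880374831513600000000) := by norm_num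

theorem e31 : (808017424794512875886459904961710757005754368000000000 : ℕ) =
    186 * (3 ^ 19 * 3737695713520807779077653910257664000000000) := by norm_num

theorem f19 : (90745943887872000 : ℕ) = 19 * (3 ^ 10 * 80883712000) := by norm_num

theorem f31 : (90745943887872000 : ℕ) = 31 * (3 ^ 10 * 49573888000) := by norm_num

section Num

variable {u : G} (hu : orderOf u = 3) {T : Subgroup G} (hTC : T ≤ centralizer ({u} : Set G))
  (hcard : Nat.card (centralizer ({u} : Set G)) = 3 * Nat.card T) (huT : u ∉ T)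
  (hG : Nat.card G = 808017424794512875886459904961710757005754368000000000)
  (hT : Nat.card T = 90745943887872000)
  {θ' : centralizer ({u} : Set G) → ℂ} {θ : T → ℂ} (hθ : IsIrrCharacter T θ) (hd : charDegree θ = 767637)
  (hθ' : ∀ t : T, θ' ⟨t, hTC t.2⟩ = θ t) {χ : G → ℂ} (hχ : IsIrrCharacter G χ)
  (hcong : ∀ g, MemLocalIdeal M (inducedCentralChar (centralizer ({u} : Set G)) θ' g - centralChar χ g))
  {m : ℕ} (hm : charDegree χ = 3 ^ 19 * m) (hm3 : ¬ 3 ∣ m)

include hu hTC hcard huT hθ hd hθ' hχ hcong hm hm3 in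
/-- the general congruence: `|C_G(s)| = 3 a`, `|C_T(s)| = b` -/
theorem congr_T (hM : IsPModular 3 M) {s : T} (hs : ¬ 3 ∣ orderOf s)
    (hconj : ∀ t : T, IsConj (s : G) t → IsConj s t) {k t : ℕ}
    (hk : (centralizer ({(s : G)} : Set G)).index = 3 ^ 19 * k) (ht : (centralizer ({s} : Set T)).index = 3 ^ 10 * t) :
    MemLocalIdeal M ((t : ℂ) * m * θ s - 13 * k * χ s) := by
  have hMp := isPrime_of_isPModular hM
  have hm0 : (m : ℂ) ≠ 0 := by
    rw [Nat.cast_ne_zero]
    rintro rfl
    exact hm3 (dvd_zero 3)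
  have h1 := hcong (s : G)
  rw [ind_eq hu hTC hcard huT hθ hθ' hs hconj, centralChar_def, centralChar_def, irr_one_eq_charDegree hθ, hd,
    irr_one_eq_charDegree hχ, hm, hk, ht] at h1
  have h2 := memLocalIdeal_mul_left (memLocalRing_natCast (13 * m)) h1
  have h3 : (t : ℂ) * m * θ s - 13 * k * χ s =
      ((13 * m : ℕ) : ℂ) * (((3 ^ 10 * t : ℕ) : ℂ) * θ s / ((767637 : ℕ) : ℂ) -
        ((3 ^ 19 * k : ℕ) : ℂ) * χ s / ((3 ^ 19 * m : ℕ) : ℂ)) := by
    push_cast
    field_simp
    ring
  rw [h3]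
  exact h2

theorem index_of {H : Type*} [Group H] [Finite H] {s : H} {n c i : ℕ} (hn : Nat.card H = n)
    (hc : Nat.card (centralizer ({s} : Set H)) = c) (hi : n = c * i) (hc0 : 0 < c) :
    (centralizer ({s} : Set H)).index = i := by
  have h := Subgroup.card_mul_index (centralizer ({s} : Set H))
  rw [hc, hn, hi] at h
  exact Nat.eq_of_mul_eq_mul_left hc0 h

include hu hTC hcard huT hG hT hθ hd hθ' hχ hcong hm hm3 in
/-- **(S19)** -/
theorem S19 (hM : IsPModular 3 M) {s : T} (hs : orderOf s = 19) (hcs : Nat.card (centralizer ({(s : G)} : Set G)) = 1140)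
    (hct : Nat.card (centralizer ({s} : Set T)) = 19) (hconj : ∀ t : T, IsConj (s : G) t → IsConj s t)
    (hθs : θ s = -1) {σ : ℤ} (hσ : χ s = σ) : σ ≡ m [ZMOD 3] := by
  have h := congr_T hu hTC hcard huT hθ hd hθ' hχ hcong hm hm3 hM (s := s) (by rw [hs]; norm_num) hconj
    (k := 609834563784973900796880374831513600000000) (t := 80883712000)
    (index_of hG hcs e19 (by norm_num)) (index_of hT hct f19 (by norm_num))
  have h1 := three_dvd hM h (n := -(80883712000 * m) - 13 * 609834563784973900796880374831513600000000 * σ) (by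
    rw [hθs, hσ]
    push_cast
    ring)
  exact num19 h1

/-- `a η + b ∈ M` implies `3 ∣ a` and `3 ∣ b`, if `η ^ 2 + η + 8 = 0` -/
theorem eta_indep (hM : IsPModular 3 M) {η : ℂ} (hη : η ^ 2 + η + 8 = 0) {a b : ℤ}
    (h : MemLocalIdeal M ((a : ℂ) * η + b)) : (3 : ℤ) ∣ a ∧ (3 : ℤ) ∣ b := by
  have hMp := isPrime_of_isPModular hM
  have hint : IsIntegral ℤ η := by
    refine ⟨Polynomial.X ^ 2 + Polynomial.X + 8, ?_, ?_⟩
    · have : (Polynomial.X ^ 2 + Polynomial.X + 8 : Polynomial ℤ) =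
          Polynomial.X ^ 2 + (Polynomial.X + Polynomial.C 8) := by
        rw [add_assoc]; rfl
      rw [this]
      exact Polynomial.monic_X_pow_add (by
        rw [Polynomial.degree_X_add_C]
        norm_num)
    · simpa only [_root_.algebraMap_int_eq, _root_.Polynomial.eval₂_add, _root_.Polynomial.eval₂_X_pow, _root_.Polynomial.eval₂_X, _root_.Polynomial.eval₂_ofNat] using hη
  have h1 : MemLocalRing M ((a : ℂ) * (-1 - η) + b) :=
    memLocalRing_add (memLocalRing_mul (memLocalRing_intCast a)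
      (memLocalRing_sub (memLocalRing_neg memLocalRing_one) (memLocalRing_of_isIntegral hint))) (memLocalRing_intCast b)
  have h2 := memLocalIdeal_mul_left h1 h
  have h3 := three_dvd hM h2 (n := 8 * a ^ 2 - a * b + b ^ 2) (by
    push_cast
    linear_combination (-(a : ℂ) ^ 2) * hη)
  have h4 : ∀ a b : ZMod 3, 8 * a ^ 2 - a * b + b ^ 2 = 0 → a = 0 ∧ b = 0 := by decide
  have h5 := h4 a b (by
    have := (ZMod.intCast_zmod_eq_zero_iff_dvd (8 * a ^ 2 - a * b + b ^ 2) 3).2 (by exact_mod_cast h3)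
    push_cast at this
    exact this)
  exact ⟨(ZMod.intCast_zmod_eq_zero_iff_dvd a 3).1 h5.1, (ZMod.intCast_zmod_eq_zero_iff_dvd b 3).1 h5.2⟩

include hu hTC hcard huT hG hT hθ hd hθ' hχ hcong hm hm3 in
/-- **(S31)**: the value at `r` is not an integer, and it is `c η`, not `c η'` -/
theorem S31 (hM : IsPModular 3 M) {r : T} (hr : orderOf r = 31) (hcs : Nat.card (centralizer ({(r : G)} : Set G)) = 186)
    (hct : Nat.card (centralizer ({r} : Set T)) = 31) (hconj : ∀ t : T, IsConj (r : G) t → IsConj r t)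
    {η : ℂ} (hη : η ^ 2 + η + 8 = 0) (hθr : θ r = η) :
    (∀ n : ℤ, χ r ≠ n) ∧ (∀ c : ℤ, χ r = c * η → c ≡ -m [ZMOD 3]) ∧ ∀ c : ℤ, ¬ χ r = c * (-1 - η) := by
  have h := congr_T hu hTC hcard huT hθ hd hθ' hχ hcong hm hm3 hM (s := r) (by rw [hr]; norm_num) hconj
    (k := 3737695713520807779077653910257664000000000) (t := 49573888000)
    (index_of hG hcs e31 (by norm_num)) (index_of hT hct f31 (by norm_num))
  rw [hθr] at h
  refine ⟨fun n hn => ?_, fun c hc => ?_, fun c hc => ?_⟩
  · have h1 := eta_indep hM hη (a := 49573888000 * m) (b := -(13 * 3737695713520807779077653910257664000000000 * n)) (by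
      rw [hn] at h
      push_cast
      push_cast at h
      convert h using 1
      ring)
    exact hm3 (by exact_mod_cast num31' h1.1)
  · have h1 := eta_indep hM hη (a := 49573888000 * m - 13 * 3737695713520807779077653910257664000000000 * c) (b := 0) (by
      rw [hc] at h
      push_cast
      push_cast at h
      convert h using 1
      ring)
    exact num31 h1.1
  · have h1 := eta_indep hM hη (a := 49573888000 * m + 13 * 3737695713520807779077653910257664000000000 * c)
      (b := 13 * 3737695713520807779077653910257664000000000 * c) (by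
      rw [hc] at h
      push_cast
      push_cast at h
      convert h using 1
      ring)
    exact hm3 (by exact_mod_cast num31'' h1.1 h1.2)

end Num

/-! ### The final forms (hypotheses `hS19`, `hS31` of `H676.Deg.RowM.cand`) -/

section Final

/-- a rational value with small centralizer -/
theorem value_of {H : Type u} [Group H] [Finite H] (θ : IrrCharacter H) {p : ℕ} (hp : p.Prime) {s : H}
    (hs : orderOf s = p) (hc : Nat.card (centralizer ({s} : Set H)) = p) (hone : ∀ t : H, orderOf t = p → IsConj s t) :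
    ∃ n : ℤ, (θ : H → ℂ) s = n ∧ (charDegree (θ : H → ℂ) : ℤ) ≡ n [ZMOD p] ∧ n ^ 2 ≤ p := by
  classical
  have hrat : ∃ q : ℚ, (θ : H → ℂ) s = q := by
    rw [Cfsg.Agent.Characters.GaloisBasic.exists_rat_iff (irr_isCharacter θ.2)]
    intro m hm
    have h1 : orderOf (s ^ m) = p := by
      rw [Nat.Coprime.orderOf_pow ((hm.symm).coprime_dvd_left (_root_.orderOf_dvd_natCard s)), hs]
    exact (irr_isConj θ.2 (hone _ h1)).symm
  obtain ⟨n, hn⟩ := Cfsg.Agent.Characters.GaloisBasic.exists_int_of_rat (irr_isCharacter θ.2) s hrat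
  refine ⟨n, hn, degree_modEq hp θ.2 hs hn, ?_⟩
  have : Finite (IrrCharacter H) := S0909.finite_irr
  have := Fintype.ofFinite (IrrCharacter H)
  have hcol := Cfsg.Agent.H686.CharKit.col_orth s s
  rw [if_pos (IsConj.refl _), hc] at hcol
  have h1 : ∀ χ : IrrCharacter H, (χ : H → ℂ) s * (starRingEnd ℂ) ((χ : H → ℂ) s) =
      ((Complex.normSq ((χ : H → ℂ) s) : ℝ) : ℂ) := fun χ => Complex.mul_conj _
  rw [Finset.sum_congr rfl fun χ _ => h1 χ, ← Complex.ofReal_sum, ← Complex.ofReal_natCast, Complex.ofReal_inj] at hcol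
  have h2 : Complex.normSq ((θ : H → ℂ) s) ≤ p := by
    rw [← hcol]
    exact Finset.single_le_sum (f := fun χ : IrrCharacter H => Complex.normSq ((χ : H → ℂ) s))
      (fun _ _ => Complex.normSq_nonneg _) (Finset.mem_univ θ)
  rw [hn, Complex.normSq_intCast] at h2
  have h3 : ((n * n : ℤ) : ℝ) ≤ ((p : ℤ) : ℝ) := by push_cast; exact h2
  have h4 : n * n ≤ (p : ℤ) := by exact_mod_cast h3
  rw [pow_two]
  exact h4

theorem neg_one_of {n : ℤ} (h5 : (19 : ℤ) ∣ n - 767637) (h3 : n ^ 2 ≤ 19) : n = -1 := by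
  have h6 : n ≤ 4 := by nlinarith only [h3]
  have h7 : -4 ≤ n := by nlinarith only [h3]
  omega

theorem not_dvd_of_factorization {d m : ℕ} (hd : 0 < d) (hv : d.factorization 3 = 19) (hm : d = 3 ^ 19 * m) :
    ¬ 3 ∣ m := by
  intro h
  have h1 : 3 ^ 20 ∣ d := by
    rw [hm, pow_succ 3 19]
    exact Nat.mul_dvd_mul_left _ h
  have h2 := (Nat.prime_three.pow_dvd_iff_le_factorization hd.ne').1 h1
  omega

variable {u : G} (hu : orderOf u = 3) {C T : Subgroup G} (hC : C = centralizer ({u} : Set G)) (hTC : T ≤ C)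
  (hcard : Nat.card C = 3 * Nat.card T) (huT : u ∉ T)
  (hG : Nat.card G = 808017424794512875886459904961710757005754368000000000)
  (hT : Nat.card T = 90745943887872000) (θ : IrrCharacter T) (hd : charDegree (θ : T → ℂ) = 767637)
  (θ' : IrrCharacter C) (hθ' : ∀ (c : C) (x : G) (t : T), x ∈ Subgroup.zpowers u → (c : G) = x * t →
      (θ' : C → ℂ) c = (θ : T → ℂ) t)
  {B : Set (IrrCharacter G)} (hind : IsInducedBlock M C (blockOf M (θ' : C → ℂ)) B) {χ : IrrCharacter G} (hχ : χ ∈ B)
  (hv : (charDegree (χ : G → ℂ)).factorization 3 = 19)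

include hu hC hTC hcard huT hG hT hd hθ' hind hχ hv in
/-- **(S19)** in the form of `H676.Deg.RowM.cand` -/
theorem final19 (hM : IsPModular 3 M) {s : T} (hs : orderOf s = 19)
    (hcs : Nat.card (centralizer ({(s : G)} : Set G)) = 1140) (hct : Nat.card (centralizer ({s} : Set T)) = 19)
    (hone : ∀ t : T, orderOf t = 19 → IsConj s t) (m : ℕ) (c : ℤ) (hm : charDegree (χ : G → ℂ) = 3 ^ 19 * m)
    (hc : (χ : G → ℂ) s = c) : (3 : ℤ) ∣ c - m := by
  have hMp := isPrime_of_isPModular hM
  subst hC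
  have hθs : (θ : T → ℂ) s = -1 := by
    obtain ⟨n, h1, h2, h3⟩ := value_of θ (by norm_num) hs hct hone
    rw [hd] at h2
    have h4 : n = -1 := neg_one_of (Int.modEq_iff_dvd.1 h2) (by exact_mod_cast h3)
    rw [h1, h4]
    norm_num
  have h := S19 hu hTC hcard huT hG hT θ.2 hd
    (θ' := (θ' : centralizer ({u} : Set G) → ℂ)) (fun t => hθ' _ 1 t (one_mem _) (by rw [one_mul])) χ.2
    (hind.2.2 θ' (mem_blockOf_self θ') χ hχ) hm (not_dvd_of_factorization (charDegree_pos χ.2) hv hm) hM hs hcs hct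
    (fun t ht => hone t (by
      obtain ⟨g, hg⟩ := isConj_iff.1 ht
      rw [← Subgroup.orderOf_coe, ← hg, show g * (s : G) * g⁻¹ = MulAut.conj g s from rfl, MulEquiv.orderOf_eq,
        Subgroup.orderOf_coe, hs])) hθs hc
  exact Int.modEq_iff_dvd.1 h.symm

theorem conj_eta {η : ℂ} (hη : η ^ 2 + η + 8 = 0) : (starRingEnd ℂ) η = -1 - η := by
  have h1 : ((starRingEnd ℂ) η) ^ 2 + (starRingEnd ℂ) η + 8 = 0 := by
    have := congrArg (starRingEnd ℂ) hη
    rw [map_add, map_add, map_pow, map_zero] at this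
    rwa [show (starRingEnd ℂ) 8 = 8 from Complex.conj_ofNat 8] at this
  have h2 : ((starRingEnd ℂ) η - η) * ((starRingEnd ℂ) η + η + 1) = 0 := by linear_combination h1 - hη
  rcases mul_eq_zero.1 h2 with h3 | h3
  · exfalso
    have h4 : (starRingEnd ℂ) η = η := sub_eq_zero.1 h3
    obtain ⟨x, hx⟩ := Complex.conj_eq_iff_real.1 h4
    rw [hx] at hη
    have h5 : x ^ 2 + x + 8 = 0 := by exact_mod_cast hη
    linarith only [h5, _root_.sq_nonneg (2 * x + 1 * 1 : ℝ)]
  · linear_combination h3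

include hu hC hTC hcard huT hG hT hd hθ' hind hχ hv in
/-- **(S31)** in the form of `H676.Deg.RowM.cand`; the elements of order 31 of `T` are conjugate to `r` or `r⁻¹`, and `r`
is not conjugate to `r⁻¹` in `G` -/
theorem final31 (hM : IsPModular 3 M) {r : T} (hr : orderOf r = 31)
    (hcs : Nat.card (centralizer ({(r : G)} : Set G)) = 186) (hct : Nat.card (centralizer ({r} : Set T)) = 31)
    (htwo : ∀ t : T, orderOf t = 31 → IsConj r t ∨ IsConj r⁻¹ t) (hnr : ¬ IsConj (r : G) (r : G)⁻¹)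
    {η : ℂ} (hη : η ^ 2 + η + 8 = 0) (hθr : (θ : T → ℂ) r = η)
    (m : ℕ) (c : ℤ) (hm : charDegree (χ : G → ℂ) = 3 ^ 19 * m)
    (hc : (χ : G → ℂ) r = c * η ∨ (χ : G → ℂ) r = c * (starRingEnd ℂ) η) : (3 : ℤ) ∣ c + m := by
  have hMp := isPrime_of_isPModular hM
  subst hC
  have h := S31 hu hTC hcard huT hG hT θ.2 hd
    (θ' := (θ' : centralizer ({u} : Set G) → ℂ)) (fun t => hθ' _ 1 t (one_mem _) (by rw [one_mul])) χ.2
    (hind.2.2 θ' (mem_blockOf_self θ') χ hχ) hm (not_dvd_of_factorization (charDegree_pos χ.2) hv hm) hM hr hcs hct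
    (fun t ht => by
      have h1 : orderOf t = 31 := by
        obtain ⟨g, hg⟩ := isConj_iff.1 ht
        rw [← Subgroup.orderOf_coe, ← hg, show g * (r : G) * g⁻¹ = MulAut.conj g r from rfl, MulEquiv.orderOf_eq,
          Subgroup.orderOf_coe, hr]
      rcases htwo t h1 with h2 | h2
      · exact h2
      · exfalso
        apply hnr
        refine ht.trans ?_
        obtain ⟨g, hg⟩ := isConj_iff.1 h2.symm
        exact isConj_iff.2 ⟨g, congrArg Subtype.val hg⟩) hη hθr
  rcases hc with hc | hc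
  · have h1 := Int.modEq_iff_dvd.1 (h.2.1 c hc)
    have h2 : (3 : ℤ) ∣ -(-(m : ℤ) - c) := (Int.dvd_neg).2 h1
    have h3 : -(-(m : ℤ) - c) = c + m := by ring
    rwa [h3] at h2
  · rw [conj_eta hη] at hc
    exact absurd hc (h.2.2 c)

end Final

end Cfsg.Agent.H792.LD
end

-- part: H676/Deg/MAsm
section
/-!
# S4910, row M: assembly in abstract form (helper676)

`main` : a group `G` of the order of the Monster, `u` of order 3, `C(u) = ⟨u⟩ × T`, `T` of the order of `Th`, `u` inverted by
an element centralizing `T`, `θ ∈ Irr T` of degree `767637` with `θ y` a root of `z² + z + 8` for the elements `y` of order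
31, the centralizers of the elements of orders 19, 31 in `T` and `G`, and `LocM G`: `G` has an irreducible character `χ ≠ 1`
of degree prime to `196883`.
-/

set_option autoImplicit false
set_option linter.unusedSectionVars false

open Cfsg
open scoped ComplexConjugate

namespace Cfsg.Agent.H676.Deg.MAsm

open Subgroup
open Cfsg.Agent.Characters.Core
open Cfsg.Agent.SmallSimple.ThetaSetup
open Cfsg.Agent.H853.Sieve.RowM
open Cfsg.Agent.H676.Deg.RowM

universe u

variable {G : Type u} [Group G] [Finite G]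

theorem fact_card : (90745943887872000 : ℕ).factorization 3 = 10 := by
  have h : (90745943887872000 : ℕ) = 3 ^ 10 * 1536790528000 := by norm_num
  rw [h, Nat.factorization_mul (by norm_num) (by norm_num), Finsupp.add_apply, Nat.prime_three.factorization_pow,
    Finsupp.single_eq_same, Nat.factorization_eq_zero_of_not_dvd (by norm_num)]

theorem fact_deg : (767637 : ℕ).factorization 3 = 10 := by
  have h : (767637 : ℕ) = 3 ^ 10 * 13 := by norm_num
  rw [h, Nat.factorization_mul (by norm_num) (by norm_num), Finsupp.add_apply, Nat.prime_three.factorization_pow,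
    Finsupp.single_eq_same, Nat.factorization_eq_zero_of_not_dvd (by norm_num)]

theorem main (hG : Nat.card G = ordM) (L : LocM G) {w n : G} {T : Subgroup G} (hu : orderOf w = 3)
    (hTC : T ≤ centralizer ({w} : Set G)) (hcard : Nat.card (centralizer ({w} : Set G)) = 3 * Nat.card T)
    (huT : w ∉ T) (hn : n * w * n⁻¹ = w⁻¹) (hnT : ∀ t ∈ T, n * t * n⁻¹ = t)
    (hT : Nat.card T = 90745943887872000) (θ : IrrCharacter T) (hθ1 : charDegree (θ : T → ℂ) = 767637)
    (hη : ∀ y : T, orderOf y = 31 → (θ : T → ℂ) y ^ 2 + (θ : T → ℂ) y + 8 = 0)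
    (hC19T : ∀ y : T, orderOf y = 19 → Nat.card (centralizer ({y} : Set T)) = 19)
    (hconj : ∀ s t : T, orderOf s = 19 → orderOf t = 19 → IsConj s t)
    (hC31T : ∀ y : T, orderOf y = 31 → Nat.card (centralizer ({y} : Set T)) = 31)
    (hC19 : ∀ y : G, orderOf y = 19 → Nat.card (centralizer ({y} : Set G)) = 60 * 19)
    (hC31 : ∀ y : G, orderOf y = 31 → Nat.card (centralizer ({y} : Set G)) = 6 * 31) :
    ∃ χ : IrrCharacter G, Nat.Coprime (charDegree (χ : G → ℂ)) 196883 ∧ 3 ∣ charDegree (χ : G → ℂ) := by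
  have h3 : Nat.Prime 3 := Nat.prime_three
  have := fact31
  obtain ⟨M, hM⟩ := Cfsg.Agent.Blocks.ExistsModular.exists_isPModular h3
  have hG' : Nat.card G = 808017424794512875886459904961710757005754368000000000 := by rw [hG]; rfl
  obtain ⟨B, θ', χ, s, h1, -, -, h4, h5, tr, h7, h8⟩ := exists_trio hM hu rfl hTC hcard huT hn hnT θ
    (by rw [hθ1, hT, fact_deg, fact_card])
  have hF19 : Fact (Nat.Prime 19) := ⟨by norm_num⟩
  obtain ⟨x, hx⟩ := exists_prime_orderOf_dvd_card' (G := T) 19 (by rw [hT]; norm_num)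
  obtain ⟨r, hr⟩ := exists_prime_orderOf_dvd_card' (G := T) 31 (by rw [hT]; norm_num)
  have hx' : orderOf (x : G) = 19 := by rw [Subgroup.orderOf_coe, hx]
  have hr' : orderOf (r : G) = 31 := by rw [Subgroup.orderOf_coe, hr]
  have hv : ∀ i, (charDegree (χ i : G → ℂ)).factorization 3 = 19 := by
    intro i
    have h9 := h7 i
    rw [hG, fact_ordM] at h9
    omega
  have hG2 : ¬ 31 ^ 2 ∣ Nat.card G := by rw [hG']; norm_num
  have hT2 : ¬ 31 ^ 2 ∣ Nat.card T := by rw [hT]; norm_num
  have hC31' : ∀ y : G, orderOf y = 31 → Nat.card (centralizer ({y} : Set G)) = 31 * 6 := fun y hy => by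
    rw [hC31 y hy]
  -- 31 in `T`
  obtain ⟨PT, KT, hPTr, hPTc, -, -⟩ := exists_T hT2 hC31T hr
  have hrel := rel31_T hT2 hC31T θ hη (by rw [Cfsg.Agent.Blocks.Basic.irr_one_eq_charDegree θ.2, hθ1]) hPTc
  have hrPT : r ∈ (PT : Subgroup T) := by rw [hPTr]; exact mem_zpowers _
  have hr1 : r ≠ 1 := by
    intro h9
    rw [h9, orderOf_one] at hr
    norm_num at hr
  have htwo : ∀ t : T, orderOf t = 31 → IsConj r t ∨ IsConj r⁻¹ t := fun t ht =>
    conj_or hPTc (e := 15) (by norm_num) (by decide) hrel hrPT hr1 ht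
  -- 31 in `G`
  obtain ⟨P, K, hPr, hP, hK, hKc, hna, he⟩ := exists_31 tr hG2 hT2 hC31T hC31' hη hθ1 hr
  have hrP : (r : G) ∈ (P : Subgroup G) := by rw [hPr]; exact mem_zpowers _
  have hnr : ¬ IsConj (r : G) (r : G)⁻¹ :=
    not_conj_inv hP (by norm_num) (by rw [he]; decide) hrP fun h9 => hr1 (Subtype.ext h9)
  have hc := cand' tr L hG hT hθ1 h7 h8 hC31T hC31' hη hx'
    (fun i m c hm hc => Cfsg.Agent.H792.LD.final19 hu rfl hTC hcard huT hG' hT θ hθ1 θ' h1 h4 (h5 i) (hv i) hM hx
      (by rw [hC19 _ hx']) (hC19T x hx) (fun t ht => hconj x t hx ht) m c hm hc) hr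
    (fun i m c hm hc => Cfsg.Agent.H792.LD.final31 hu rfl hTC hcard huT hG' hT θ hθ1 θ' h1 h4 (h5 i) (hv i) hM hr
      (by rw [hC31 _ hr']) (hC31T r hr) htwo hnr (hη r hr) rfl m c hm hc)
  obtain ⟨i, hi⟩ := exists_coprime tr hc
  exact ⟨χ i, hi, (dvd_pow_self 3 (by norm_num : 19 ≠ 0)).trans (hc i).three⟩

end Cfsg.Agent.H676.Deg.MAsm
end

-- part: H676/Deg/MInst
section
/-!
# S4910, row M: the instance (helper676)

* `th_data` : the facts on `Th` at 19 and 31; `row` : the row of the Monster from (M0) the local structure of 3C, (M3) the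
  character of `Th` of degree `767637`, and the orders of the centralizers of the elements of orders 29, 41, 47, 59, 71.
-/

set_option autoImplicit false
set_option linter.unusedSectionVars false

open Cfsg
open scoped ComplexConjugate

namespace Cfsg.Agent.H676.Deg.MInst

open Subgroup
open Cfsg.Agent.Characters.Core
open Cfsg.Agent.H241.NH Cfsg.Agent.H241.Mon
open Cfsg.Agent.H853.Sieve.RowM

universe u

theorem card_cent_equiv {A B : Type*} [Group A] [Group B] (e : A ≃* B) (x : A) :
    Nat.card (centralizer ({x} : Set A)) = Nat.card (centralizer ({e x} : Set B)) := by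
  refine Nat.card_congr (e.toEquiv.subtypeEquiv fun a => ?_)
  rw [mem_centralizer_singleton_iff, mem_centralizer_singleton_iff]
  constructor
  · intro h
    change e a * e x = e x * e a
    rw [← map_mul, ← map_mul, h]
  · intro h
    have h1 : e a * e x = e x * e a := h
    rw [← map_mul, ← map_mul] at h1
    exact e.injective h1

/-- the facts on `Th` -/
theorem th_data {T : Type u} [Group T] [Finite T] (h : Spor.IsoTh T) :
    Nat.card T = 90745943887872000 ∧
    (∀ y : T, orderOf y = 19 → Nat.card (centralizer ({y} : Set T)) = 19) ∧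
    (∀ s t : T, orderOf s = 19 → orderOf t = 19 → IsConj s t) ∧
    (∀ y : T, orderOf y = 31 → Nat.card (centralizer ({y} : Set T)) = 31) := by
  obtain ⟨e⟩ := h
  have hT : Nat.card T = 90745943887872000 := by rw [Nat.card_congr e.toEquiv, S1700.result.2]
  have h19 : ∀ y : T, orderOf y = 19 → Nat.card (centralizer ({y} : Set T)) = 19 := by
    intro y hy
    rw [card_cent_equiv e y]
    exact H491.PB.Th.card_nineteen (by rw [MulEquiv.orderOf_eq, hy])
  refine ⟨hT, h19, fun s t hs ht => ?_, fun y hy => ?_⟩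
  · exact Cfsg.Agent.H715.Mon.Norm.isConj_of (by norm_num) (by rw [hT]; norm_num) (fun Q hQ =>
      (Cfsg.Agent.H715.Mon.Norm.relIndex_eq (by norm_num) (by rw [hT]; norm_num)
        h19 (e := 18) (by norm_num) (by rw [hT]) hQ).1) hs ht
  · rw [card_cent_equiv e y]
    exact H491.PB.Th.card_thirtyone (by rw [MulEquiv.orderOf_eq, hy])

/-- transport of the character of `Th` -/
theorem theta_T {T : Type u} [Group T] [Finite T] (h : Spor.IsoTh T)
    (hθ : ∃ θ : Spor.Th → ℂ, IsIrrCharacter Spor.Th θ ∧ θ 1 = 767637 ∧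
      ∀ y, orderOf y = 31 → θ y ^ 2 + θ y + 8 = 0) :
    ∃ θ : IrrCharacter T, charDegree (θ : T → ℂ) = 767637 ∧
      ∀ y : T, orderOf y = 31 → (θ : T → ℂ) y ^ 2 + (θ : T → ℂ) y + 8 = 0 := by
  obtain ⟨e⟩ := h
  obtain ⟨θ, h1, h2, h3⟩ := hθ
  have h4 : IsIrrCharacter T (θ ∘ e) := isIrr_comp e.toMonoidHom e.surjective h1
  refine ⟨⟨θ ∘ e, h4⟩, ?_, fun y hy => h3 (e y) (by rw [MulEquiv.orderOf_eq, hy])⟩
  have h5 := Cfsg.Agent.Blocks.Basic.irr_one_eq_charDegree h4
  rw [Function.comp_apply, map_one, h2] at h5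
  have h6 : ((767637 : ℕ) : ℂ) = charDegree (θ ∘ e) := by
    rw [← h5]; norm_num
  exact_mod_cast h6.symm

/-- **The row of the Monster.** -/
theorem row (h3 : Cfsg.Agent.H715.Mon.Grp.SThree.{0})
    (c29 : ∀ y : Gam, orderOf y = 29 → Nat.card (centralizer ({y} : Set Gam)) = 3 * 29)
    (c41 : ∀ y : Gam, orderOf y = 41 → Nat.card (centralizer ({y} : Set Gam)) = 41)
    (c47 : ∀ y : Gam, orderOf y = 47 → Nat.card (centralizer ({y} : Set Gam)) = 2 * 47)
    (c59 : ∀ y : Gam, orderOf y = 59 → Nat.card (centralizer ({y} : Set Gam)) = 59)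
    (c71 : ∀ y : Gam, orderOf y = 71 → Nat.card (centralizer ({y} : Set Gam)) = 71)
    (m0 : ∃ (w n : Gam) (T : Subgroup Gam), orderOf w = 3 ∧ T ≤ centralizer ({w} : Set Gam) ∧
      Nat.card (centralizer ({w} : Set Gam)) = 3 * Nat.card T ∧ w ∉ T ∧ n * w * n⁻¹ = w⁻¹ ∧
      (∀ t ∈ T, n * t * n⁻¹ = t) ∧ Spor.IsoTh T)
    (m3 : ∃ θ : Spor.Th → ℂ, IsIrrCharacter Spor.Th θ ∧ θ 1 = 767637 ∧
      ∀ y, orderOf y = 31 → θ y ^ 2 + θ y + 8 = 0) :
    ∃ χ : IrrCharacter Gam, Nat.Coprime (charDegree (χ : Gam → ℂ)) 196883 ∧ 3 ∣ charDegree (χ : Gam → ℂ) := by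
  obtain ⟨w, n, T, h4, h5, h6, h7, h8, h9, hT⟩ := m0
  obtain ⟨θ, h10, h11⟩ := theta_T hT m3
  obtain ⟨h12, h13, h14, h15⟩ := th_data hT
  exact MAsm.main (by rw [card_G]; rfl) (LocM.locM h3 c29 c41 c47 c59 c71) h4 h5 h6 h7 h8 h9 h12 θ h10 h11 h13 h14 h15
    (fun y hy => Cfsg.Agent.H715.Mon.Exact.card19' h3 hy) (fun y hy => Cfsg.Agent.H715.Mon.Cent.card31 h3 hy)

end Cfsg.Agent.H676.Deg.MInst
end

-- part: H66/LD/SplitThree
section
/-!
# The centralizer of an element of order 3 with `C(v) / ⟨v⟩` simple without multiplier (helper66)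

If `C(v) / ⟨v⟩ ≅ Th`, a perfect group with trivial Schur multiplier and trivial outer automorphism group, and `v` is
real, then `C(v) = ⟨v⟩ × T` with `T ≅ Th`, and `v` is inverted by an element centralizing `T`.
-/

set_option autoImplicit false

namespace Cfsg.Agent.H66.LD.SplitThree

open Cfsg Cfsg.Agent.LThreeMB
open Subgroup (centralizer zpowers mem_centralizer_singleton_iff)

theorem main {G Th : Type} [Group G] [Finite G] [Group Th] (hperf : _root_.commutator Th = ⊤)
    (hmul : HasCyclicSchurMultiplier Th 1) (hout : Nat.card (Out Th) = 1) {v n0 : G}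
    (hv : orderOf v = 3) (hn : n0 * v * n0⁻¹ = v⁻¹) (e : XX v ≃* Th) :
    ∃ (n : G) (T : Subgroup G), T ≤ centralizer ({v} : Set G) ∧
      Nat.card (centralizer ({v} : Set G)) = 3 * Nat.card T ∧ v ∉ T ∧ n * v * n⁻¹ = v⁻¹ ∧
      (∀ t ∈ T, n * t * n⁻¹ = t) ∧ Nonempty (T ≃* Th) := by
  have hv1 : v ≠ 1 := by
    rintro rfl
    rw [orderOf_one] at hv
    norm_num at hv
  obtain ⟨C, hC⟩ : ∃ C : Subgroup G, C = centralizer ({v} : Set G) := ⟨_, rfl⟩
  let f : ↥(centralizer ({v} : Set G)) →* Th := e.toMonoidHom.comp (QuotientGroup.mk' (Zx v))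
  have hf : Function.Surjective f := e.surjective.comp (QuotientGroup.mk'_surjective _)
  have hker : f.ker = Zx v := by
    ext g
    rw [MonoidHom.mem_ker]
    change e (QuotientGroup.mk' (Zx v) g) = 1 ↔ _
    rw [map_eq_one_iff e e.injective]
    exact QuotientGroup.eq_one_iff g
  have hself : self v ∈ f.ker := by
    rw [hker]
    exact Subgroup.mem_zpowers _
  have hselfo : orderOf (self v) = 3 := by
    rw [← hv]
    exact Subgroup.orderOf_mk v _
  obtain ⟨D, hD⟩ : ∃ D : Subgroup ↥(centralizer ({v} : Set G)), D = _root_.commutator _ := ⟨_, rfl⟩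
  have hmap : D.map f = ⊤ := by
    rw [hD, _root_.commutator_def, Subgroup.map_commutator, ← MonoidHom.range_eq_map, MonoidHom.range_eq_top.2 hf,
      ← _root_.commutator_def, hperf]
  have hnot : self v ∉ D := by
    intro h
    have hst : IsStemExtension f := by
      refine ⟨hf, ?_, ?_⟩
      · rw [hker]
        exact Zx_le_center v
      · rw [hker, Zx, Subgroup.zpowers_le, ← hD]
        exact h
    obtain ⟨π, hπ⟩ := hmul.2 _ f hst
    obtain ⟨a, ha⟩ := hπ ⟨self v, hself⟩
    obtain ⟨b, hb⟩ := hπ 1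
    have hab : a = b := Subsingleton.elim _ _
    rw [← hab, ha] at hb
    have h1 : self v = 1 := congrArg Subtype.val hb
    rw [h1, orderOf_one] at hselfo
    norm_num at hselfo
  have hdis : ∀ d ∈ D, f d = 1 → d = 1 := by
    intro d hd h1
    have h2 : d ∈ Zx v := by rw [← hker]; exact h1
    by_contra hne
    have : Fact (Nat.Prime 3) := ⟨Nat.prime_three⟩
    have hc3 : Nat.card (Zx v) = 3 := by rw [Zx, Nat.card_zpowers, hselfo]
    have : Fact (Nat.card (Zx v)).Prime := ⟨by rw [hc3]; exact Nat.prime_three⟩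
    rcases Subgroup.eq_bot_or_eq_top_of_prime_card (D.subgroupOf (Zx v)) with h | h
    · have h3 : (⟨d, h2⟩ : Zx v) ∈ D.subgroupOf (Zx v) := Subgroup.mem_subgroupOf.2 hd
      rw [h, Subgroup.mem_bot] at h3
      exact hne (congrArg Subtype.val h3)
    · have h3 : (⟨self v, Subgroup.mem_zpowers _⟩ : Zx v) ∈ D.subgroupOf (Zx v) := by rw [h]; trivial
      exact hnot (Subgroup.mem_subgroupOf.1 h3)
  have hbij : Function.Bijective (f.comp D.subtype) := by
    constructor
    · rw [injective_iff_map_eq_one]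
      intro d hd
      exact Subtype.ext (hdis d d.2 hd)
    · intro y
      have hy : y ∈ D.map f := by rw [hmap]; trivial
      obtain ⟨d, hd, hdy⟩ := hy
      exact ⟨⟨d, hd⟩, hdy⟩
  let eD : D ≃* Th := MulEquiv.ofBijective (f.comp D.subtype) hbij
  obtain ⟨T, hT⟩ : ∃ T : Subgroup G, T = D.map (centralizer ({v} : Set G)).subtype := ⟨_, rfl⟩
  have eT0 : T ≃* Th := by
    rw [hT]
    exact (D.equivMapOfInjective (centralizer ({v} : Set G)).subtype
      (Subgroup.subtype_injective _)).symm.trans eD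
  have hTcomm : T = ⁅centralizer ({v} : Set G), centralizer ({v} : Set G)⁆ := by
    rw [hT, hD, Subgroup.map_subtype_commutator]
  have hTC : T ≤ centralizer ({v} : Set G) := by
    rw [hT]
    exact Subgroup.map_subtype_le D
  have hfin : Finite Th := Finite.of_surjective f hf
  have hcard : Nat.card (centralizer ({v} : Set G)) = 3 * Nat.card T := by
    rw [Subgroup.card_eq_card_quotient_mul_card_subgroup (Zx v), Nat.card_congr eT0.toEquiv, Zx,
      Nat.card_zpowers, hselfo, mul_comm]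
    congr 1
    exact Nat.card_congr e.toEquiv
  have hvT : v ∉ T := by
    intro h
    rw [hT] at h
    obtain ⟨d, hd, hdv⟩ := h
    apply hnot
    have h1 : d = self v := Subtype.ext hdv
    rw [← h1]
    exact hd
  -- conjugation by `n0`
  have hnC : ∀ g ∈ centralizer ({v} : Set G), n0 * g * n0⁻¹ ∈ centralizer ({v} : Set G) := by
    intro g hg
    rw [mem_centralizer_singleton_iff] at hg ⊢
    have h1 : g * v⁻¹ = v⁻¹ * g := (show Commute g v from hg).inv_right.eq
    have h2 : v = n0 * v⁻¹ * n0⁻¹ := by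
      calc v = (v⁻¹)⁻¹ := (inv_inv v).symm
        _ = (n0 * v * n0⁻¹)⁻¹ := by rw [hn]
        _ = n0 * v⁻¹ * n0⁻¹ := by group
    calc n0 * g * n0⁻¹ * v = n0 * g * n0⁻¹ * (n0 * v⁻¹ * n0⁻¹) := by rw [← h2]
      _ = n0 * (g * v⁻¹) * n0⁻¹ := by group
      _ = n0 * (v⁻¹ * g) * n0⁻¹ := by rw [h1]
      _ = (n0 * v⁻¹ * n0⁻¹) * (n0 * g * n0⁻¹) := by group
      _ = v * (n0 * g * n0⁻¹) := by rw [← h2]
  have hnT : ∀ t ∈ T, n0 * t * n0⁻¹ ∈ T := by
    intro t ht
    have h1 : (centralizer ({v} : Set G)).map (MulAut.conj n0).toMonoidHom ≤ centralizer ({v} : Set G) := by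
      rintro _ ⟨g, hg, rfl⟩
      exact hnC g hg
    have h2 : T.map (MulAut.conj n0).toMonoidHom ≤ T := by
      rw [hTcomm, Subgroup.map_commutator]
      exact Subgroup.commutator_mono h1 h1
    exact h2 (Subgroup.mem_map_of_mem _ ht)
  let α : T →* T :=
    { toFun := fun t => ⟨n0 * t * n0⁻¹, hnT t t.2⟩
      map_one' := Subtype.ext (by simp)
      map_mul' := fun a b => Subtype.ext (by
        show n0 * ((a * b : T) : G) * n0⁻¹ = (n0 * a * n0⁻¹) * (n0 * b * n0⁻¹)
        rw [Subgroup.coe_mul]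
        group) }
  have hαi : Function.Injective α := by
    intro a b hab
    have h1 : n0 * (a : G) * n0⁻¹ = n0 * b * n0⁻¹ := congrArg Subtype.val hab
    exact Subtype.ext (by simpa only [_root_.SetLike.coe_eq_coe, _root_.mul_left_inj, _root_.mul_right_inj] using h1)
  have hTfin : Finite T := inferInstance
  let αe : MulAut T := MulEquiv.ofBijective α ((Finite.injective_iff_bijective (f := α)).1 hαi)
  let β : MulAut Th := (eT0.symm.trans αe).trans eT0
  have hβ : β ∈ Inn Th := by
    have h1 : Subsingleton (Out Th) := (Nat.card_eq_one_iff_unique.1 hout).1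
    exact (QuotientGroup.eq_one_iff β).1 (Subsingleton.elim _ _)
  obtain ⟨s, hs⟩ := hβ
  obtain ⟨t0, ht0⟩ : ∃ t0 : T, t0 = eT0.symm s := ⟨_, rfl⟩
  have hconj : ∀ t : T, n0 * (t : G) * n0⁻¹ = t0 * t * (t0 : G)⁻¹ := by
    intro t
    have h1 : β (eT0 t) = s * eT0 t * s⁻¹ := by rw [← hs, MulAut.conj_apply]
    have h2 : β (eT0 t) = eT0 (αe t) := by
      change eT0 (αe (eT0.symm (eT0 t))) = _
      rw [MulEquiv.symm_apply_apply]
    have h3 : αe t = t0 * t * t0⁻¹ := by
      apply eT0.injective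
      rw [← h2, h1, map_mul, map_mul, map_inv, ht0, MulEquiv.apply_symm_apply]
    exact congrArg Subtype.val h3
  refine ⟨(t0 : G)⁻¹ * n0, T, hTC, hcard, hvT, ?_, ?_, ⟨eT0⟩⟩
  · have h1 : (t0 : G) * v = v * t0 := mem_centralizer_singleton_iff.1 (hTC t0.2)
    have h2 : (t0 : G)⁻¹ * v⁻¹ * t0 = v⁻¹ := by
      have h3 : (t0 : G) * v⁻¹ = v⁻¹ * t0 := (show Commute (t0 : G) v from h1).inv_right.eq
      rw [mul_assoc, ← h3]
      group
    calc (t0 : G)⁻¹ * n0 * v * ((t0 : G)⁻¹ * n0)⁻¹ = (t0 : G)⁻¹ * (n0 * v * n0⁻¹) * t0 := by group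
      _ = (t0 : G)⁻¹ * v⁻¹ * t0 := by rw [hn]
      _ = v⁻¹ := h2
  · intro t ht
    calc (t0 : G)⁻¹ * n0 * t * ((t0 : G)⁻¹ * n0)⁻¹ = (t0 : G)⁻¹ * (n0 * t * n0⁻¹) * t0 := by group
      _ = (t0 : G)⁻¹ * (t0 * t * (t0 : G)⁻¹) * t0 := by rw [hconj ⟨t, ht⟩]
      _ = t := by group

end Cfsg.Agent.H66.LD.SplitThree
end

-- part: H66/LD/Loc3C
section
/-!
# The Monster: the centralizer of an element of the class 3C (helper66)

`C(u) = ⟨u⟩ × T` with `T ≅ Th`, and `u` is inverted by an element centralizing `T`.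
-/

set_option autoImplicit false
set_option maxRecDepth 100000

namespace Cfsg.Agent.H66.LD.Loc3C

open Cfsg Cfsg.Agent.H241.Mon Cfsg.Agent.MonsterX.MainBasic
open Cfsg.Agent.LThreeMB (fr XX KChart.pi exists_conj_of_conj)
open Cfsg.Agent.MonsterX Cfsg.Agent.MonsterX.InstData Cfsg.Agent.MonsterX.MainPack Cfsg.Agent.MonsterU
open Subgroup (centralizer zpowers mem_centralizer_singleton_iff)
open Cfsg.Spor (Co1)

theorem fr_inv (s : Co1) : fr s⁻¹ = fr s := by
  apply Nat.card_congr
  exact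
    { toFun := fun v => ⟨v.1, by
        have h1 := v.2
        have h2 := congrArg (fun w => s • w) h1
        simp only [smul_inv_smul] at h2
        exact h2.symm⟩
      invFun := fun v => ⟨v.1, by
        have h1 := v.2
        have h2 := (congrArg (fun w => s⁻¹ • w) h1 :)
        simp only [inv_smul_smul] at h2
        exact h2.symm⟩
      left_inv := fun v => rfl
      right_inv := fun v => rfl }

seal _root_.LinearEquiv.trans in
/-- **The local structure of the class 3C.** -/
theorem m0 : ∃ (u n : Gam) (T : Subgroup Gam), orderOf u = 3 ∧ T ≤ centralizer ({u} : Set Gam) ∧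
    Nat.card (centralizer ({u} : Set Gam)) = 3 * Nat.card T ∧ u ∉ T ∧ n * u * n⁻¹ = u⁻¹ ∧
    (∀ t ∈ T, n * t * n⁻¹ = t) ∧ Spor.IsoTh T := by
  obtain ⟨v, hv, hfr, ⟨e⟩⟩ := exists_th
  have hpo : orderOf (KChart.pi MFive.Row.hc v) = 3 := LThreeMB.orderOf_pi chart hv
  obtain ⟨k, hk⟩ := LThreeMB.CoOneFin.coOne.eight (KChart.pi MFive.Row.hc v) (KChart.pi MFive.Row.hc v)⁻¹ hpo
    (by rw [orderOf_inv, hpo]) hfr (by rw [fr_inv, hfr])
  have hv3 : v ^ 3 = 1 := by rw [← hv, pow_orderOf_eq_one]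
  obtain ⟨c, hc⟩ := exists_conj_of_conj chart hv3 (y := v⁻¹) (by rw [inv_pow, hv3, inv_one]) (s := k)
    (by rw [hk, map_inv])
  have hv' : orderOf (v : Gam) = 3 := by rw [Subgroup.orderOf_coe, hv]
  have hn : (c : Gam) * (v : Gam) * (c : Gam)⁻¹ = (v : Gam)⁻¹ := congrArg Subtype.val hc
  have cx := Cfsg.Agent.KFacts.Th.Main.ctx
  have : Finite Cfsg.Spor.Th := cx.fin
  have hs : IsSimpleGroup Cfsg.Spor.Th := Cfsg.Agent.Th.Main1700.isTh.1
  obtain ⟨n, T, h1, h2, h3, h4, h5, h6⟩ := SplitThree.main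
    (Cfsg.Agent.H53.OddLift.commutator_eq_top_of_card cx.card (by norm_num)) Cfsg.Agent.S2057.result
    Cfsg.Agent.S2083.result hv' hn e
  exact ⟨v, n, T, hv', h1, h2, h3, h4, h5, h6⟩

end Cfsg.Agent.H66.LD.Loc3C
end

-- part: H676/LD/RowM
section
/-!
# S4910, row M (helper676)

`row_M` : `CopRow S` for `Spor.IsoM S`: the degree `196883` and a degree prime to `196883` (`MInst.row`).
-/

set_option autoImplicit false
set_option linter.unusedSectionVars false

open Cfsg

namespace Cfsg.Agent.H676.LD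

open Subgroup
open Cfsg.Agent.Characters.Core
open Cfsg.Agent.H241.NH Cfsg.Agent.H241.Mon

universe u

/-- the character of the model -/
theorem model (B : Cfsg.Agent.H940.Eng.Base) :
    ∃ χ : IrrCharacter Gam, Nat.Coprime (charDegree (χ : Gam → ℂ)) 196883 ∧ 3 ∣ charDegree (χ : Gam → ℂ) := by
  have hK := Cfsg.Agent.H438.Fpr.Mon.allKnown B
  obtain ⟨θ, h1, h2, -, -, h3⟩ := Cfsg.Agent.H653.ThE.exists_theta
  refine Cfsg.Agent.H676.Deg.MInst.row (Cfsg.Agent.H715.Mon.Grp.sThree B) (fun y hy => ?_)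
    (fun y hy => Cfsg.Agent.H241.Deg.Mon.card41 B hy) (fun y hy => ?_)
    (fun y hy => (Cfsg.Agent.H58.Cop.M.norm_fiftynine hK hy).1)
    (fun y hy => (Cfsg.Agent.H241.Deg.Mon.norm71 B hy).1) Cfsg.Agent.H66.LD.Loc3C.m0 ⟨θ, h1, h2, h3⟩
  · exact Cfsg.Agent.H626.LD.TwentyNine.card_cent hy
  · rw [show (2 * 47 : ℕ) = 47 * 2 by norm_num]
    exact Cfsg.Agent.H436.MonLoc.card47 hK hy

variable {S : Type u} [Group S] [Finite S]

/-- **S4910, row M.** -/
theorem row_M (B : Cfsg.Agent.H940.Eng.Base) [IsSimpleGroup S] (h : Spor.IsoM S) : Cfsg.Agent.H954.LD.CopRow S := by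
  have ho : Nat.card (Cfsg.Out S) = 1 := h.elim fun e => (Cfsg.Agent.H149.Sp.card_out_congr e).trans S2085.result
  obtain ⟨e1⟩ := id h
  obtain ⟨e2⟩ := MonsterP.Equiv.equiv
  let e : S ≃* Gam := e1.trans e2
  obtain ⟨ψ, hψ, hψ1⟩ := Cfsg.Agent.H816.IMM.exists_chi_196883 h
  obtain ⟨χ, hχ, hχ3⟩ := model B
  have hχ' : IsIrrCharacter S ((χ : Gam → ℂ) ∘ e) := isIrr_comp e.toMonoidHom e.surjective χ.2
  have hd : charDegree ((χ : Gam → ℂ) ∘ e) = charDegree (χ : Gam → ℂ) := by
    unfold charDegree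
    rw [Function.comp_apply, map_one]
  have hψd : charDegree ψ = 196883 := by
    have h5 := Cfsg.Agent.Blocks.Basic.irr_one_eq_charDegree hψ
    rw [hψ1] at h5
    exact_mod_cast h5.symm
  have hna : ¬ IsMulCommutative S := by
    intro hc
    have hcard := Cfsg.Agent.H816.IMM.card_eq h
    have hp : (Nat.card S).Prime := by
      letI : CommGroup S := { (inferInstance : Group S) with mul_comm := fun a b => hc.is_comm.comm a b }
      exact IsSimpleGroup.prime_card
    rw [hcard] at hp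
    norm_num at hp
  exact Cfsg.Agent.H954.LD.copRow_one hna ho (α := ⟨_, hχ'⟩) (β := ⟨ψ, hψ⟩)
    (by
      show charDegree ((χ : Gam → ℂ) ∘ e) ≠ 1
      rw [hd]
      intro h1
      rw [h1] at hχ3
      norm_num at hχ3)
    (by
      show charDegree ψ ≠ 1
      rw [hψd]
      norm_num)
    (by
      show Nat.Coprime (charDegree ((χ : Gam → ℂ) ∘ e)) (charDegree ψ)
      rw [hd, hψd]
      exact hχ)

end Cfsg.Agent.H676.LD
end

private theorem dce_5944adf239c4 : _root_.True := by
  try have : _root_.True := by simp only [_root_.Cfsg.Agent.H349.LD.exs.eq_2]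
  try have : _root_.True := by simp only [_root_.Cfsg.Agent.H349.LD.chk.eq_2]
  try have : _root_.True := by simp only [_root_.Cfsg.Agent.H535.K4.ON.m_u58653.eq_1]
  try have : _root_.True := by simp only [_root_.Cfsg.Agent.H349.LD.exs.eq_1]
  try have : _root_.True := by simp only [_root_.Cfsg.Agent.H349.LD.chk.eq_1]
  try have : _root_.True := by simp only [_root_.Cfsg.Agent.H349.LD.sgs.eq_1]
  try have : _root_.True := by simp only [_root_.Cfsg.Agent.H349.LD.ON.bds.eq_1]
  try have : _root_.True := by simp only [_root_.Cfsg.Agent.H349.LD.exs._sparseCasesOn_1.else_eq]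
  try have : _root_.True := by simp only [_root_.Cfsg.Agent.H349.LD.chk.eq_def]
  try have : _root_.True := by simp only [_root_.Cfsg.Agent.H349.LD.exs.eq_def]
  try have : _root_.True := by simp only [_root_.Cfsg.Agent.H535.K4.ON.m_u116963.eq_1]
  try have : _root_.True := by simp only [_root_.Cfsg.Agent.H349.LD.sgs.eq_2]
  try have : _root_.True := by simp only [_root_.Cfsg.Agent.H349.LD.sgs.eq_def]
  exact _root_.True.intro
end
end
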